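import Groth.Agent.AR46.Adic
import Mathlib.RingTheory.Filtration
import Mathlib.Algebra.Category.ModuleCat.Abelian

/-!
Increasing chains of strict subsystems of an adic system of modules are stationary.
-/

set_option autoImplicit false
set_option linter.unusedSectionVars false
universe w

open CategoryTheory CategoryTheory.Limits Opposite ARSys Groth.Agent.AR46

namespace Groth.Agent.EtModAR45

variable {A : Type w} [CommRing A] [IsNoetherianRing A] {J : Ideal A} {X : PS (ModuleCat.{w} A)}

theorem mem_pow_smul_of_tr_eq_zero (hX : IsAdic J X) {n m : ℕ} (h : n ≤ m) {x : X.obj (op m)}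
    (hx : tr X h x = 0) : x ∈ (J ^ (n + 1)) • (⊤ : Submodule A (X.obj (op m))) := by
  let N := (J ^ (n + 1)) • (⊤ : Submodule A (X.obj (op m)))
  have hkill : HomKilledBy (J ^ (n + 1)) (ModuleCat.ofHom N.mkQ : X.obj (op m) ⟶ _) := fun b hb => by
    ext v
    exact (Submodule.Quotient.mk_eq_zero N).2 (Submodule.smul_mem_smul hb trivial : b • v ∈ N)
  obtain ⟨ψ, hψ, -⟩ := (hX.2 n m h).2 _ _ hkill
  exact (Submodule.Quotient.mk_eq_zero N).1 ((ConcreteCategory.congr_hom hψ x).symm.trans
    ((congrArg ψ hx).trans (map_zero _)))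

theorem pow_smul_eq_zero (hX : IsAdic J X) {n : ℕ} {a : A} (ha : a ∈ J ^ (n + 1)) (x : X.obj (op n)) : a • x = 0 :=
  ConcreteCategory.congr_hom (hX.1 n a ha) x

theorem exists_compatible (hX : IsAdic J X) (x : X.obj (op 0)) :
    ∃ c : ∀ n, X.obj (op n), c 0 = x ∧ ∀ n, tr X n.le_succ (c (n + 1)) = c n := by
  have hs : ∀ n (y : X.obj (op n)), ∃ y' : X.obj (op (n + 1)), tr X n.le_succ y' = y :=
    fun n y => (ModuleCat.epi_iff_surjective _).1 (isStrict_of_isAdic hX _ _ _) y
  exact ⟨fun n => n.rec x fun n y => (hs n y).choose, rfl, fun n => (hs n _).choose_spec⟩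

/-- An adic system of modules with finite bottom is a system of quotients of one free module. -/
theorem exists_cover (hX : IsAdic J X) (h0 : Module.Finite A (X.obj (op 0))) :
    ∃ (m : ℕ) (f : ∀ n, (Fin m → A) →ₗ[A] X.obj (op n)),
      (∀ n, Function.Surjective (f n)) ∧ ∀ n v, tr X n.le_succ (f (n + 1) v) = f n v := by
  obtain ⟨m, g, hg⟩ := Module.Finite.exists_fin' A (X.obj (op 0))
  classical
  choose c hc0 hc using fun i : Fin m => exists_compatible hX (g (Pi.single i 1))
  let f : ∀ n, (Fin m → A) →ₗ[A] X.obj (op n) := fun n => Fintype.linearCombination A fun i => c i n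
  have hf : ∀ n v, tr X n.le_succ (f (n + 1) v) = f n v := fun n v => by
    simp only [f, Fintype.linearCombination_apply, map_sum, map_smul, hc]
  have hf0 : f 0 = g := (Pi.basisFun A (Fin m)).ext fun i => by
    rw [Pi.basisFun_apply]
    exact (Fintype.linearCombination_apply_single A _ i 1).trans ((one_smul A _).trans (hc0 i))
  refine ⟨m, f, fun n => ?_, hf⟩
  have hfk : ∀ k v, tr X (Nat.zero_le k) (f k v) = f 0 v := fun k v => by
    induction k with
    | zero => exact ConcreteCategory.congr_hom (X.map_id _) _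
    | succ k ih =>
      rw [show tr X (Nat.zero_le (k + 1)) = tr X k.le_succ ≫ tr X (Nat.zero_le k) from (AR46.tr_tr X _ _).symm,
        ConcreteCategory.comp_apply, hf k v, ih]
  have step : (⊤ : Submodule A (X.obj (op n))) ≤ LinearMap.range (f n) ⊔ J • ⊤ := fun x _ => by
    obtain ⟨v, hv⟩ := hg (tr X (Nat.zero_le n) x)
    refine Submodule.mem_sup.2 ⟨f n v, ⟨v, rfl⟩, x - f n v, ?_, add_sub_cancel _ _⟩
    have := mem_pow_smul_of_tr_eq_zero hX (Nat.zero_le n) (x := x - f n v)
      (by rw [map_sub, hfk, hf0, hv, sub_self])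
    rwa [pow_one] at this
  have iter : ∀ i, (⊤ : Submodule A (X.obj (op n))) ≤ LinearMap.range (f n) ⊔ J ^ i • ⊤ := fun i => by
    induction i with
    | zero => exact fun x _ => Submodule.mem_sup_right (by rw [pow_zero, Ideal.one_eq_top, Submodule.top_smul]; trivial)
    | succ i ih =>
      refine ih.trans (sup_le le_sup_left ?_)
      refine (smul_mono_right (J ^ i) step).trans ?_
      rw [Submodule.smul_sup, ← Submodule.mul_smul, ← pow_succ]
      exact sup_le (Submodule.smul_le_right.trans le_sup_left) le_sup_right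
  intro x
  obtain ⟨y, ⟨v, hv⟩, z, hz, hxz⟩ := Submodule.mem_sup.1 (iter (n + 1) (Submodule.mem_top (x := x)))
  have hz0 : z = 0 := by
    refine Submodule.smul_induction_on hz (fun a ha w _ => pow_smul_eq_zero hX ha w) fun a b ha hb => ?_
    rw [ha, hb, add_zero]
  exact ⟨v, by rw [hv, ← hxz, hz0, add_zero]⟩

/-- Increasing chains of strict subsystems are stationary. -/
theorem exists_stationary (hX : IsAdic J X) (h0 : Module.Finite A (X.obj (op 0)))
    (L : ℕ → ∀ n, Submodule A (X.obj (op n))) (hL : ∀ k n, L k n ≤ L (k + 1) n)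
    (htr : ∀ k n, (L k (n + 1)).map (tr X n.le_succ).hom = L k n) :
    ∃ k₀, ∀ k, k₀ ≤ k → ∀ n, L k n = L k₀ n := by
  obtain ⟨m, f, hsurj, hf⟩ := exists_cover hX h0
  let M := Fin m → A
  let P : ℕ → ℕ → Submodule A M := fun k n => (L k n).comap (f n)
  have hdec : ∀ k n, P k (n + 1) ≤ P k n := fun k n v hv => by
    show f n v ∈ L k n
    rw [← htr k n, ← hf n v]
    exact ⟨_, hv, rfl⟩
  have hlift : ∀ k n v, v ∈ P k n → ∃ u ∈ P k (n + 1), f n (v - u) = 0 := fun k n v hv => by
    obtain ⟨y, hy, hyv⟩ : f n v ∈ (L k (n + 1)).map (tr X n.le_succ).hom := by rw [htr]; exact hv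
    obtain ⟨u, rfl⟩ := hsurj (n + 1) y
    refine ⟨u, hy, ?_⟩
    rw [map_sub, ← hf n u, sub_eq_zero]
    exact hyv.symm
  have hker : ∀ n v, f n v = 0 → ∃ j ∈ J ^ (n + 1) • (⊤ : Submodule A M), f (n + 1) (v - j) = 0 := fun n v hv => by
    have hx := mem_pow_smul_of_tr_eq_zero hX n.le_succ (x := f (n + 1) v) ((hf n v).trans hv)
    rw [← LinearMap.range_eq_top.2 (hsurj (n + 1)), ← Submodule.map_top, ← Submodule.map_smul''] at hx
    obtain ⟨j, hj, hjv⟩ := hx
    exact ⟨j, hj, by rw [map_sub, hjv, sub_self]⟩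
  let F : ℕ → J.Filtration M := fun k =>
    { N := fun n => P k n ⊓ J ^ n • ⊤
      mono := fun n => inf_le_inf (hdec k n) (Submodule.smul_mono_left (Ideal.pow_le_pow_right n.le_succ))
      smul_le := fun n => by
        refine Submodule.smul_le.2 fun a ha v hv => ⟨?_, by
          rw [pow_succ', Submodule.mul_smul]; exact Submodule.smul_mem_smul ha hv.2⟩
        obtain ⟨u, hu, huv⟩ := hlift k n v hv.1
        obtain ⟨j, hj, hjv⟩ := hker n (v - u) huv
        show f (n + 1) (a • v) ∈ L k (n + 1)
        have e : f (n + 1) (a • v) = f (n + 1) (a • u) + a • f (n + 1) (v - u) := by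
          rw [← map_smul, ← map_add, smul_sub, add_sub_cancel]
        have hzero : a • f (n + 1) (v - u) = 0 := by
          have : f (n + 1) (v - u) = f (n + 1) j := by rw [← sub_eq_zero, ← map_sub, hjv]
          rw [this, ← map_smul]
          refine Submodule.smul_induction_on (p := fun j => f (n + 1) (a • j) = 0) hj
            (fun b hb w _ => ?_) fun b c hb hc => ?_
          · rw [smul_smul, map_smul]
            exact pow_smul_eq_zero hX (by rw [pow_succ' J (n + 1)]; exact Ideal.mul_mem_mul ha hb) _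
          · rw [smul_add, map_add, hb, hc, add_zero]
        rw [e, hzero, add_zero, map_smul]
        exact Submodule.smul_mem _ _ hu }
  have hmono : ∀ k n, P k n ≤ P (k + 1) n := fun k n => Submodule.comap_mono (hL k n)
  have hFle : ∀ k, (F k).submodule ≤ (J.stableFiltration (⊤ : Submodule A M)).submodule := fun k p hp i => (hp i).2
  have hfg : (J.stableFiltration (⊤ : Submodule A M)).submodule.FG :=
    (Ideal.Filtration.submodule_fg_iff_stable _ fun i => IsNoetherian.noetherian _).2
      (J.stableFiltration_stable ⊤)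
  have : _root_.IsNoetherian (reesAlgebra J) (J.stableFiltration (⊤ : Submodule A M)).submodule :=
    isNoetherian_of_fg_of_noetherian _ hfg
  obtain ⟨k₀, hk₀⟩ := monotone_stabilizes_iff_noetherian.2 this
    ⟨fun k => (F k).submodule.comap (J.stableFiltration (⊤ : Submodule A M)).submodule.subtype,
      monotone_nat_of_le_succ fun k => Submodule.comap_mono fun p hp i => ⟨hmono k i (hp i).1, (hp i).2⟩⟩
  refine ⟨k₀, fun k hk => ?_⟩
  have hchain : ∀ n, P k₀ n ≤ P k n := fun n => monotone_nat_of_le_succ (fun k => hmono k n) hk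
  have hgr : ∀ n, ∀ v ∈ P k n, v ∈ J ^ n • (⊤ : Submodule A M) → v ∈ P k₀ n := fun n v hv hv' => by
    classical
    have hmem : PolynomialModule.single A n v ∈ (F k).submodule := fun i => by
      rcases eq_or_ne n i with h | h
      · subst h
        rw [PolynomialModule.coeff_single, Finsupp.single_eq_same]
        exact ⟨hv, hv'⟩
      · rw [PolynomialModule.coeff_single, Finsupp.single_eq_of_ne' h]
        exact zero_mem _
    have h1 := SetLike.ext_iff.1 (hk₀ k hk) ⟨PolynomialModule.single A n v, hFle k hmem⟩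
    have h2 : (PolynomialModule.single A n v).coeff n ∈ (F k₀).N n := (h1.2 hmem) n
    rw [PolynomialModule.coeff_single, Finsupp.single_eq_same] at h2
    exact h2.1
  suffices ∀ n, P k n ≤ P k₀ n by
    intro n
    refine le_antisymm (fun y hy => ?_) (fun y hy => ?_)
    · obtain ⟨v, rfl⟩ := hsurj n y
      exact this n hy
    · obtain ⟨v, rfl⟩ := hsurj n y
      exact hchain n hy
  intro n
  induction n with
  | zero => exact fun v hv => hgr 0 v hv (by rw [pow_zero, Ideal.one_eq_top, Submodule.top_smul]; trivial)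
  | succ n ih =>
    intro v hv
    obtain ⟨u, hu, huv⟩ := hlift k₀ n v (ih (hdec k n hv))
    obtain ⟨j, hj, hjv⟩ := hker n (v - u) huv
    have hju : f (n + 1) v = f (n + 1) u + f (n + 1) j := by
      rw [← map_add, ← sub_eq_zero, ← map_sub]
      rw [show v - (u + j) = v - u - j by abel]
      exact hjv
    have hj' : j ∈ P k (n + 1) := by
      show f (n + 1) j ∈ L k (n + 1)
      rw [show f (n + 1) j = f (n + 1) v - f (n + 1) u by rw [hju]; abel]
      exact Submodule.sub_mem _ hv (hchain (n + 1) hu)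
    show f (n + 1) v ∈ L k₀ (n + 1)
    rw [hju]
    exact Submodule.add_mem _ hu (hgr (n + 1) j hj' hj)

end Groth.Agent.EtModAR45
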