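import Groth.Agent.EtModAR45.Pieces
import Groth.Agent.EtModAR45.StrictChain

/-!
Increasing chains of adic up to translation subsystems are stationary up to translation.
-/

set_option autoImplicit false
set_option linter.unusedSectionVars false
set_option backward.isDefEq.respectTransparency.types false
universe u

open CategoryTheory CategoryTheory.Limits AlgebraicGeometry Opposite ARSys Topology
open Groth.Agent.LocConst45.Mod
open Groth.Agent.Unr55.EtSh (Pt hom mkPt)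

namespace Groth.Agent.EtModAR45

variable {Λ : Type (u + 1)} [CommRing Λ] {X : Scheme.{u}}

theorem isIso_spec_ext {Ω Ω' : Type u} [Field Ω] [IsSepClosed Ω] [Field Ω'] [IsSepClosed Ω']
    (c : Spec (CommRingCat.of Ω') ⟶ Spec (CommRingCat.of Ω)) (η : Spec (CommRingCat.of Ω) ⟶ X) :
    IsIso (spec (Λ := Λ) (extHom c η)) := by
  have : ∀ F : EtModW.Mod Λ X, IsIso ((spec (Λ := Λ) (extHom c η)).app F) := fun F => by
    refine (ConcreteCategory.isIso_iff_bijective _).2 ⟨?_, fun a => ?_⟩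
    · refine (injective_iff_map_eq_zero ((spec (Λ := Λ) (extHom c η)).app F).hom).2 fun a ha => ?_
      obtain ⟨V, s, σ, rfl⟩ := exists_germ_eq η F a
      obtain ⟨W, g, t, h1, h2⟩ := (germ_eq_zero_iff (c ≫ η) F (Cons51.ptExt c η s) σ).1
        ((spec_germ (extHom c η) F s σ).symm.trans ha)
      obtain ⟨t', ht'⟩ := LocConst45.exists_pt_over g s (hom (c ≫ η) t default)
        ((congrArg (fun q => hom (c ≫ η) q default) h1).trans (Cons51.ptExt_default c η s))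
      exact (germ_eq_zero_iff η F s σ).2 ⟨W, g, t', ht', h2⟩
    · obtain ⟨V, t, σ, rfl⟩ := exists_germ_eq (c ≫ η) F a
      obtain ⟨p, rfl⟩ := Cons51.exists_ptExt_eq c η t
      exact ⟨germ η F p σ, spec_germ (extHom c η) F p σ⟩
  exact NatIso.isIso_of_isIso_app _

/-- Stalk functors at two geometric points over one point are isomorphic. -/
theorem nonempty_stalkIso_of_eq {Ω Ω' : Type u} [Field Ω] [IsSepClosed Ω] [Field Ω'] [IsSepClosed Ω']
    (η : Spec (CommRingCat.of Ω) ⟶ X) (η' : Spec (CommRingCat.of Ω') ⟶ X) (h : η default = η' default) :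
    Nonempty (EtModW.stalk Λ η ≅ EtModW.stalk Λ η') := by
  obtain ⟨z, -, -⟩ := Scheme.Pullback.exists_preimage_pullback (f := η) (g := η') default default h
  let K := AlgebraicClosure ((pullback η η').residueField z)
  let k : Spec (CommRingCat.of K) ⟶ pullback η η' :=
    Spec.map (CommRingCat.ofHom (algebraMap ((pullback η η').residueField z) K)) ≫
      (pullback η η').fromSpecResidueField z
  have hk : (k ≫ pullback.fst η η') ≫ η = (k ≫ pullback.snd η η') ≫ η' := by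
    simp only [Category.assoc, pullback.condition]
  have h1 : Nonempty (EtModW.stalk Λ η ≅ EtModW.stalk Λ ((k ≫ pullback.fst η η') ≫ η)) :=
    haveI := isIso_spec_ext (Λ := Λ) (k ≫ pullback.fst η η') η
    ⟨asIso (spec (extHom (k ≫ pullback.fst η η') η))⟩
  rw [hk] at h1
  have := isIso_spec_ext (Λ := Λ) (k ≫ pullback.snd η η') η'
  exact h1.map fun e => e ≪≫ (asIso (spec (extHom (k ≫ pullback.snd η η') η'))).symm

variable [IsNoetherianRing Λ] {I : Ideal Λ}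

section

variable {F : PS (EtModW.Mod Λ X)} (Y : ℕ → PS (EtModW.Mod Λ X)) (u : ∀ k, Y k ⟶ F)

/-- After applying `Φ`, every image is contained in the image at stage `k₀`. -/
def StatAt (Φ : EtModW.Mod Λ X ⥤ ModuleCat.{u + 1} Λ) (k₀ : ℕ) : Prop :=
  ∀ k, k₀ ≤ k → ∀ (n : ℕ) (b : Φ.obj ((Y k).obj (op n))),
    ∃ b₀ : Φ.obj ((Y k₀).obj (op n)), Φ.map ((u k₀).app (op n)) b₀ = Φ.map ((u k).app (op n)) b

theorem StatAt.of_iso {Φ Ψ : EtModW.Mod Λ X ⥤ ModuleCat.{u + 1} Λ} (e : Φ ≅ Ψ) {k₀ : ℕ}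
    (h : StatAt Y u Φ k₀) : StatAt Y u Ψ k₀ := fun k hk n b => by
  obtain ⟨b₀, hb₀⟩ := h k hk n (e.inv.app _ b)
  refine ⟨e.hom.app _ b₀, ?_⟩
  have h1 := congrArg (e.hom.app (F.obj (op n))) hb₀
  rw [← ConcreteCategory.comp_apply, ← ConcreteCategory.comp_apply (Φ.map _) (e.hom.app _), e.hom.naturality,
    e.hom.naturality, ConcreteCategory.comp_apply, ConcreteCategory.comp_apply, ← ConcreteCategory.comp_apply
    (e.inv.app _) (e.hom.app _), Iso.inv_hom_id_app] at h1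
  exact h1

theorem exists_statAt (hF : IsAdic I F) (hY : ∀ k, IsAdic I (Y k))
    (hmono : ∀ k n, ∃ (s : ℕ) (g : (Y k).obj (op (n + s)) ⟶ (Y (k + 1)).obj (op n)),
      g ≫ (u (k + 1)).app (op n) = tr (Y k) (Nat.le_add_right n s) ≫ (u k).app (op n))
    {Ω : Type u} [Field Ω] [IsSepClosed Ω] (η : Spec (CommRingCat.of Ω) ⟶ X)
    (h0 : Module.Finite Λ ((EtModW.stalk Λ η).obj (F.obj (op 0)) : ModuleCat.{u + 1} Λ)) :
    ∃ k₀, StatAt Y u (EtModW.stalk Λ η) k₀ := by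
  let Φ := EtModW.stalk Λ η
  have hsurj : ∀ k {a b : ℕ} (h : a ≤ b), Function.Surjective (Φ.map (tr (Y k) h)) := fun k a b h =>
    (ModuleCat.epi_iff_surjective _).1 (Groth.Agent.AR46.isStrict_of_isAdic (isAdic_map Φ (hY k)) a b h)
  let L : ℕ → ∀ n, Submodule Λ ((F ⋙ Φ).obj (op n)) := fun k n => LinearMap.range (Φ.map ((u k).app (op n))).hom
  have hnat : ∀ k n (b : Φ.obj ((Y k).obj (op (n + 1)))),
      Φ.map ((u k).app (op n)) (Φ.map (tr (Y k) n.le_succ) b) =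
        Φ.map (tr F n.le_succ) (Φ.map ((u k).app (op (n + 1))) b) := fun k n b => by
    rw [← ConcreteCategory.comp_apply, ← Φ.map_comp, ← ConcreteCategory.comp_apply (Φ.map ((u k).app _)),
      ← Φ.map_comp, Groth.Agent.AR46.tr_naturality]
  have hL : ∀ k n, L k n ≤ L (k + 1) n := by
    rintro k n _ ⟨b, rfl⟩
    obtain ⟨s, g, hg⟩ := hmono k n
    obtain ⟨b', rfl⟩ := hsurj k (Nat.le_add_right n s) b
    refine ⟨Φ.map g b', ?_⟩
    change Φ.map ((u (k + 1)).app (op n)) (Φ.map g b') = Φ.map ((u k).app (op n)) (Φ.map (tr (Y k) _) b')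
    rw [← ConcreteCategory.comp_apply, ← Φ.map_comp, hg, Φ.map_comp, ConcreteCategory.comp_apply]
  have htr : ∀ k n, (L k (n + 1)).map (tr (F ⋙ Φ) n.le_succ).hom = L k n := fun k n => by
    ext y
    constructor
    · rintro ⟨_, ⟨b, rfl⟩, rfl⟩
      exact ⟨Φ.map (tr (Y k) n.le_succ) b, hnat k n b⟩
    · rintro ⟨b, rfl⟩
      obtain ⟨b', rfl⟩ := hsurj k n.le_succ b
      exact ⟨_, ⟨b', rfl⟩, (hnat k n b').symm⟩
  obtain ⟨k₀, hk₀⟩ := exists_stationary (isAdic_map Φ hF) h0 L hL htr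
  exact ⟨k₀, fun k hk n b => (hk₀ k hk n).le (show _ ∈ L k n from ⟨b, rfl⟩)⟩

theorem exists_open_statAt (hF : IsAdic I F) (hY : ∀ k, IsAdic I (Y k))
    (hFc : ∀ n : ℕ, EtModW.IsConstructible Λ (F.obj (op n)))
    (hYc : ∀ k (n : ℕ), EtModW.IsConstructible Λ ((Y k).obj (op n)))
    (hmono : ∀ k n, ∃ (s : ℕ) (g : (Y k).obj (op (n + s)) ⟶ (Y (k + 1)).obj (op n)),
      g ≫ (u (k + 1)).app (op n) = tr (Y k) (Nat.le_add_right n s) ≫ (u k).app (op n))
    {T : Scheme.{u}} (g : T ⟶ X) [IsReduced T] [IrreducibleSpace T] :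
    ∃ W : T.Opens, genericPoint T ∈ W ∧ ∃ k₀, ∀ (Ω : Type u) [Field Ω] [IsSepClosed Ω]
      (ζ : Spec (CommRingCat.of Ω) ⟶ W.toScheme), StatAt Y u (EtModW.stalk Λ (ζ ≫ W.ι ≫ g)) k₀ := by
  obtain ⟨Ω₀, _, _, η, hη⟩ := exists_point (genericPoint T)
  obtain ⟨k₀, hk₀⟩ := exists_statAt Y u hF hY hmono (η ≫ g) (finite_stalk (hFc 0) _)
  obtain ⟨W₁, hW₁, hW₁f⟩ := exists_open_flc hF hFc g
  obtain ⟨W₂, hW₂, hW₂f⟩ := exists_open_flc (hY k₀) (hYc k₀) g
  let W : T.Opens := W₁ ⊓ W₂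
  have hW : genericPoint T ∈ W := ⟨hW₁, hW₂⟩
  refine ⟨W, hW, k₀, fun Ω _ _ ζ k hk n b => ?_⟩
  have restr : ∀ {M : EtModW.Mod Λ X} {V : T.Opens} (h : W ≤ V),
      EtModW.IsFTLocConst Λ ((EtModW.pull Λ (V.ι ≫ g)).obj M) →
      EtModW.IsFTLocConst Λ ((EtModW.pull Λ (W.ι ≫ g)).obj M) := fun {M V} h hV =>
    ModCons93.ftlc_of_iso (((EtSix.pullModComp Λ (T.homOfLE h) (V.ι ≫ g)).app M).symm ≪≫
      (EtSix.pullModCongr Λ (by rw [← Category.assoc, T.homOfLE_ι])).app M) (isFTLocConst_pull _ hV)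
  let p : Pt ζ (EtCoh.top W.toScheme) := mkPt ζ ζ (Category.comp_id ζ)
  have hq : ∀ {L : Type u} [Field L] [IsSepClosed L] (c : Spec (CommRingCat.of L) ⟶ W.toScheme)
      (t : Pt c (EtCoh.top W.toScheme)), hom c t = c := fun c t => (Category.comp_id _).symm.trans (Over.w t)
  have hspec : (⟨genericPoint T, hW⟩ : W.toScheme) ⤳ hom ζ p default := by
    exact W.ι.isOpenEmbedding.isInducing.specializes_iff.1 ((genericPoint_spec T).specializes (Set.mem_univ _))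
  obtain ⟨K', _, _, ζ', φ, hg'⟩ := Cons51.exists_specArrow ζ p _ hspec
  have hζ' : (ζ' ≫ W.ι) default = η default := by
    rw [hq ζ' (φ.hom.app _ p)] at hg'
    exact (Scheme.Hom.comp_apply _ _ _).trans ((congrArg W.ι hg').trans hη.symm)
  obtain ⟨e⟩ := nonempty_stalkIso_of_eq (Λ := Λ) (η ≫ g) (ζ' ≫ W.ι ≫ g) (by
    rw [← Category.assoc, Scheme.Hom.comp_apply, Scheme.Hom.comp_apply, hζ'])
  have hη' := StatAt.of_iso Y u e hk₀
  let τ : EtModW.stalk Λ (ζ ≫ W.ι ≫ g) ⟶ EtModW.stalk Λ (ζ' ≫ W.ι ≫ g) :=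
    (stalkPullModIso (W.ι ≫ g) ζ).hom ≫ Functor.whiskerLeft _ (spec φ) ≫ (stalkPullModIso (W.ι ≫ g) ζ').inv
  have hτ : ∀ M, EtModW.IsFTLocConst Λ ((EtModW.pull Λ (W.ι ≫ g)).obj M) → Function.Bijective (τ.app M) :=
    fun M hM => by
      have := isIso_spec_of_ftlc φ hM
      have : IsIso ((Functor.whiskerLeft (EtModW.pull Λ (W.ι ≫ g)) (spec (Λ := Λ) φ)).app M) := this
      have : IsIso (τ.app M) := by
        simp only [τ, NatTrans.comp_app]
        infer_instance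
      exact ConcreteCategory.bijective_of_isIso _
  obtain ⟨b₁, hb₁⟩ := hη' k hk n (τ.app _ b)
  obtain ⟨b₀, rfl⟩ := (hτ _ (restr inf_le_right (hW₂f n))).2 b₁
  refine ⟨b₀, (hτ _ (restr inf_le_left (hW₁f n))).1 ?_⟩
  rw [← ConcreteCategory.comp_apply, ← ConcreteCategory.comp_apply ((EtModW.stalk Λ (ζ ≫ W.ι ≫ g)).map _) (τ.app _),
    τ.naturality, τ.naturality, ConcreteCategory.comp_apply, ConcreteCategory.comp_apply]
  exact hb₁

end

theorem chain_stationary [IsNoetherian X] {F : PS (EtModW.Mod Λ X)} (hF : IsAdic I F)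
    (hFc : ∀ n : ℕ, EtModW.IsConstructible Λ (F.obj (op n))) (Z : ℕ →o Subobject F)
    (hZ : ∀ k, TermKilled I (Subobject.underlying.obj (Z k) : PS (EtModW.Mod Λ X)) ∧
      ∃ (Y : PS (EtModW.Mod Λ X)) (v : Y ⟶ (Subobject.underlying.obj (Z k) : PS (EtModW.Mod Λ X))),
        IsAdic I Y ∧ (∀ n : ℕ, EtModW.IsConstructible Λ (Y.obj (op n))) ∧ IsARIso v) :
    ∃ k₀ : ℕ, ∀ k : ℕ, k₀ ≤ k → IsARIso (Subobject.ofLE (Z k) (Z (k + 1)) (Z.monotone (Nat.le_succ k))) := by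
  choose hk Y v hY hYc hv using hZ
  choose s w hw using fun k => (Groth.Agent.AR46.isARIso_iff_exists_shiftInverse (v k)).1 (hv k)
  let ι : ∀ k, (Subobject.underlying.obj (Z k) : PS (EtModW.Mod Λ X)) ⟶
      (Subobject.underlying.obj (Z (k + 1)) : PS (EtModW.Mod Λ X)) :=
    fun k => Subobject.ofLE (Z k) (Z (k + 1)) (Z.monotone (Nat.le_succ k))
  have hι : ∀ k (m : ℕ), (ι k).app (op m) ≫ (Z (k + 1)).arrow.app (op m) = (Z k).arrow.app (op m) := fun k m =>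
    (NatTrans.comp_app _ _ _).symm.trans (congrArg (fun t : _ ⟶ F => t.app (op m)) (Subobject.ofLE_arrow _))
  let u : ∀ k, Y k ⟶ F := fun k => v k ≫ (Z k).arrow
  have hmono : ∀ k n, ∃ (s' : ℕ) (g : (Y k).obj (op (n + s')) ⟶ (Y (k + 1)).obj (op n)),
      g ≫ (u (k + 1)).app (op n) = tr (Y k) (Nat.le_add_right n s') ≫ (u k).app (op n) := fun k n => by
    refine ⟨s (k + 1), (v k).app _ ≫ (ι k).app _ ≫ w (k + 1) n, ?_⟩
    simp only [u, NatTrans.comp_app, Category.assoc]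
    rw [reassoc_of% (hw (k + 1)).inv_comp n]
    rw [Groth.Agent.AR46.tr_naturality (Z (k + 1)).arrow, reassoc_of% hι k, Groth.Agent.AR46.tr_naturality_assoc,
      Groth.Agent.AR46.tr_naturality]
  let q : ∀ k (n : ℕ), F.obj (op n) ⟶ cokernel ((Z k).arrow.app (op n)) := fun k n => cokernel.π _
  suffices ∀ C : Set X, IsClosed C → ∃ k₀, ∀ k, k₀ ≤ k → ∀ (Ω : Type u) [Field Ω] [IsSepClosed Ω]
      (η : Spec (CommRingCat.of Ω) ⟶ X), η default ∈ C → ∀ n : ℕ,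
      (EtModW.stalk Λ η).map ((u (k + 1)).app (op n) ≫ q k n) = 0 by
    obtain ⟨k₀, hk₀⟩ := this Set.univ isClosed_univ
    refine ⟨k₀, fun k hk => ?_⟩
    have hz : ∀ n : ℕ, (u (k + 1)).app (op n) ≫ q k n = 0 := fun n =>
      eq_zero_of_stalks _ fun Ω _ _ η => hk₀ k hk Ω η (Set.mem_univ _) n
    have hm : ∀ j n, Mono ((Z j).arrow.app n) := fun j n =>
      (NatTrans.mono_iff_mono_app (Z j).arrow).1 inferInstance n
    let l : ∀ n : ℕ, (Subobject.underlying.obj (Z (k + 1)) : PS (EtModW.Mod Λ X)).obj (op (n + s (k + 1))) ⟶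
        (Subobject.underlying.obj (Z k) : PS (EtModW.Mod Λ X)).obj (op n) := fun n =>
      Abelian.monoLift ((Z k).arrow.app (op n)) (w (k + 1) n ≫ (u (k + 1)).app (op n)) (by
        rw [Category.assoc, hz n, comp_zero])
    have hl : ∀ n, l n ≫ (Z k).arrow.app (op n) = (Z (k + 1)).arrow.app (op (n + s (k + 1))) ≫
        tr F (Nat.le_add_right n (s (k + 1))) := fun n => by
      rw [Abelian.monoLift_comp]
      simp only [u, NatTrans.comp_app]
      rw [reassoc_of% (hw (k + 1)).inv_comp n, Groth.Agent.AR46.tr_naturality]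
    refine Groth.Agent.AR46.isARIso_of_isShiftInverse (u := ι k) (s := s (k + 1)) (w := l)
      { natural := fun {a b} hab => ?_
        inv_comp := fun n => ?_
        comp_inv := fun n => ?_ }
    · have := hm k (op a)
      rw [← cancel_mono ((Z k).arrow.app (op a)), Category.assoc, Category.assoc, hl,
        Groth.Agent.AR46.tr_naturality, reassoc_of% hl b, Groth.Agent.AR46.tr_naturality_assoc,
        Groth.Agent.AR46.tr_tr, Groth.Agent.AR46.tr_tr]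
    · have := hm (k + 1) (op n)
      rw [← cancel_mono ((Z (k + 1)).arrow.app (op n)), Category.assoc, hι, hl,
        Groth.Agent.AR46.sm, Groth.Agent.AR46.tr_naturality]
    · have := hm k (op n)
      rw [← cancel_mono ((Z k).arrow.app (op n)), Category.assoc, hl, reassoc_of% hι k,
        Groth.Agent.AR46.sm, Groth.Agent.AR46.tr_naturality]
  refine fun C hC => ConstrTop58.closed_induction
    (P := fun C : Set X => ∃ k₀, ∀ k, k₀ ≤ k → ∀ (Ω : Type u) [Field Ω] [IsSepClosed Ω]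
      (η : Spec (CommRingCat.of Ω) ⟶ X), η default ∈ C → ∀ n : ℕ,
      (EtModW.stalk Λ η).map ((u (k + 1)).app (op n) ≫ q k n) = 0)
    ⟨0, fun k _ Ω _ _ η h => h.elim⟩ ?_ ?_ C hC
  · rintro C D - - ⟨k₁, h₁⟩ ⟨k₂, h₂⟩
    refine ⟨max k₁ k₂, fun k hk Ω _ _ η hη n => ?_⟩
    rcases hη with hη | hη
    · exact h₁ k ((le_max_left _ _).trans hk) Ω η hη n
    · exact h₂ k ((le_max_right _ _).trans hk) Ω η hη n
  intro C hC hCi ih
  obtain ⟨T, g, hg, hT, hgr⟩ := Cons51.exists_reduced_immersion hC.isLocallyClosed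
  have : IrreducibleSpace T := by
    have hirr : IsIrreducible (Set.univ : Set T) := by
      refine ⟨?_, ?_⟩
      · obtain ⟨y, hy⟩ := hCi.nonempty
        obtain ⟨t, -⟩ := hgr.ge hy
        exact ⟨t, trivial⟩
      · intro a b ha hb ha' hb'
        obtain ⟨O₁, hO₁, rfl⟩ := g.isEmbedding.isInducing.isOpen_iff.1 ha
        obtain ⟨O₂, hO₂, rfl⟩ := g.isEmbedding.isInducing.isOpen_iff.1 hb
        obtain ⟨x, -, hx⟩ := ha'
        obtain ⟨y, -, hy⟩ := hb'
        obtain ⟨z, hz, hz₁, hz₂⟩ := hCi.isPreirreducible O₁ O₂ hO₁ hO₂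
          ⟨g x, hgr.le ⟨x, rfl⟩, hx⟩ ⟨g y, hgr.le ⟨y, rfl⟩, hy⟩
        obtain ⟨t, rfl⟩ := hgr.ge hz
        exact ⟨t, trivial, hz₁, hz₂⟩
    exact irreducibleSpace_def _ |>.2 hirr
  obtain ⟨W, hW, k₁, hk₁⟩ := exists_open_statAt Y u hF hY hFc hYc hmono g
  obtain ⟨O, hO, hOW⟩ := g.isEmbedding.isInducing.isOpen_iff.1 W.2
  obtain ⟨k₂, hk₂⟩ := ih _ (hC.sdiff hO) ⟨Set.sdiff_subset, fun h =>
    (h (hgr ▸ ⟨_, rfl⟩ : g (genericPoint T) ∈ C)).2 (show genericPoint T ∈ g ⁻¹' O by rw [hOW]; exact hW)⟩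
  refine ⟨max k₁ k₂, fun k hk Ω _ _ η hη n => ?_⟩
  by_cases hηO : η default ∈ O
  swap
  · exact hk₂ k ((le_max_right _ _).trans hk) Ω η ⟨hη, hηO⟩ n
  obtain ⟨ζ, rfl⟩ := Cons51.exists_lift η (W.ι ≫ g) (by
    rintro _ ⟨a, rfl⟩
    rw [Unr55.EtSh.default_eq a]
    obtain ⟨t, ht⟩ := hgr.ge hη
    refine ⟨⟨t, ?_⟩, (Scheme.Hom.comp_apply _ _ _).trans ht⟩
    show t ∈ (W : Set T)
    rw [show (W : Set T) = g ⁻¹' O from hOW.symm]
    show g t ∈ O
    rw [ht]
    exact hηO)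
  let Φ := EtModW.stalk Λ (ζ ≫ W.ι ≫ g)
  have hmem : ∀ (d : ℕ) (c : Φ.obj ((Y k₁).obj (op n))), ∃ c' : Φ.obj ((Y (k₁ + d)).obj (op n)),
      Φ.map ((u (k₁ + d)).app (op n)) c' = Φ.map ((u k₁).app (op n)) c := by
    intro d c
    induction d with
    | zero => exact ⟨c, rfl⟩
    | succ d ih' =>
      obtain ⟨c', hc'⟩ := ih'
      obtain ⟨s', gm, hgm⟩ := hmono (k₁ + d) n
      obtain ⟨c'', rfl⟩ := (ModuleCat.epi_iff_surjective _).1
        (Groth.Agent.AR46.isStrict_of_isAdic (isAdic_map Φ (hY (k₁ + d))) n (n + s') (Nat.le_add_right n s')) c'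
      refine ⟨Φ.map gm c'', ?_⟩
      rw [← ConcreteCategory.comp_apply, ← Φ.map_comp]
      refine (congrArg (fun t => Φ.map t c'') hgm).trans ?_
      rw [Φ.map_comp, ConcreteCategory.comp_apply]
      exact hc'
  refine ConcreteCategory.hom_ext _ _ fun b => ?_
  obtain ⟨b₁, hb₁⟩ := hk₁ Ω ζ (k + 1) (by omega) n b
  obtain ⟨d, rfl⟩ : ∃ d, k = k₁ + d := ⟨k - k₁, by omega⟩
  obtain ⟨b₂, hb₂⟩ := hmem d b₁
  rw [Φ.map_comp, ConcreteCategory.comp_apply, ← hb₁, ← hb₂, ← ConcreteCategory.comp_apply, ← Φ.map_comp]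
  have : (u (k₁ + d)).app (op n) ≫ q (k₁ + d) n = 0 := by
    simp only [u, q, NatTrans.comp_app, Category.assoc, cokernel.condition, comp_zero]
  rw [this, Φ.map_zero]
  rfl

end Groth.Agent.EtModAR45
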