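import Groth.Agent.EtModAR45.Transfer
import Groth.Agent.AR46.Elem
import Mathlib.CategoryTheory.Limits.Shapes.Kernels

/-!
Being adic up to translation is detected by a jointly faithful family of exact functors, given a uniform shift.
-/

set_option autoImplicit false
set_option linter.unusedSectionVars false
universe w v v' u u' t

open CategoryTheory CategoryTheory.Limits Opposite ARSys Groth.Agent.AR46

namespace Groth.Agent.EtModAR45

variable {C : Type u} [Category.{v} C] [Abelian C] {D : Type u'} [Category.{v'} D] [Abelian D]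
  {A : Type w} [CommRing A] [Linear A C] [Linear A D]

/-- `X` receives a morphism from an adic system, invertible up to the shift `σ`. -/
def Bdd (J : Ideal A) (σ : ℕ) (X : PS C) : Prop :=
  ∃ (B : PS C) (u : B ⟶ X) (w : ∀ n, X.obj (op (n + σ)) ⟶ B.obj (op n)), IsAdic J B ∧ IsShiftInverse u σ w

variable {J : Ideal A}

theorem exists_bdd {X B : PS C} {u : B ⟶ X} (hB : IsAdic J B) (hu : IsARIso u) : ∃ σ, Bdd J σ X := by
  obtain ⟨σ, w, hw⟩ := (isARIso_iff_exists_shiftInverse u).1 hu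
  exact ⟨σ, B, u, w, hB, hw⟩

theorem Bdd.mono {σ σ' : ℕ} {X : PS C} (h : Bdd J σ X) (hσ : σ ≤ σ') : Bdd J σ' X := by
  obtain ⟨B, u, w, hB, hw⟩ := h
  refine ⟨B, u, fun n => tr X (show n + σ ≤ n + σ' by omega) ≫ w n, hB,
    { natural := fun {a b} hab => ?_
      inv_comp := fun n => ?_
      comp_inv := fun n => ?_ }⟩
  · rw [← Category.assoc, tr_tr, Category.assoc, ← hw.natural hab, ← Category.assoc, tr_tr]
  · rw [Category.assoc, hw.inv_comp, tr_tr]
  · rw [← tr_naturality_assoc, hw.comp_inv, tr_tr]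

theorem Bdd.of_iso {σ : ℕ} {X Y : PS C} (h : Bdd J σ X) (e : X ≅ Y) : Bdd J σ Y := by
  obtain ⟨B, u, w, hB, hw⟩ := h
  refine ⟨B, u ≫ e.hom, fun n => e.inv.app _ ≫ w n, hB,
    { natural := fun {a b} hab => ?_
      inv_comp := fun n => ?_
      comp_inv := fun n => ?_ }⟩
  · rw [tr_naturality_assoc, hw.natural hab, Category.assoc]
  · rw [NatTrans.comp_app, Category.assoc, reassoc_of% hw.inv_comp n]
    exact (congrArg (e.inv.app _ ≫ ·) (tr_naturality e.hom (Nat.le_add_right n σ))).trans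
      (Iso.inv_hom_id_app_assoc e _ _)
  · rw [NatTrans.comp_app, Category.assoc, Iso.hom_inv_id_app_assoc, hw.comp_inv]

theorem Bdd.map (G : C ⥤ D) [G.Additive] [G.Linear A] [PreservesFiniteColimits G] [IsNoetherianRing A]
    {σ : ℕ} {X : PS C} (h : Bdd J σ X) : Bdd J σ (X ⋙ G) := by
  obtain ⟨B, u, w, hB, hw⟩ := h
  exact ⟨B ⋙ G, Functor.whiskerRight u G, fun n => G.map (w n), isAdic_map G hB,
    { natural := fun h => (G.map_comp _ _).symm.trans ((congrArg G.map (hw.natural h)).trans (G.map_comp _ _))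
      inv_comp := fun n => (G.map_comp _ _).symm.trans (congrArg G.map (hw.inv_comp n))
      comp_inv := fun n => (G.map_comp _ _).symm.trans (congrArg G.map (hw.comp_inv n)) }⟩

section

variable {σ : ℕ} {X T : PS C} (h : Bdd J σ X) (v : T ⟶ X) [∀ n, Mono (v.app n)]
  (e : ∀ n, X.obj (op (n + σ)) ⟶ T.obj (op n)) [∀ n, Epi (e n)] (he : ∀ n, e n ≫ v.app (op n) = sm X σ n)

include h he

theorem strict_of_bdd : IsStrict T := fun a b hab => by
  obtain ⟨B, u, w, hB, hw⟩ := h
  have hm : Mono (v.app (op a)) := inferInstance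
  have hkey : (tr B (show a ≤ b + σ by omega) ≫ u.app (op a)) =
      u.app (op (b + σ)) ≫ e b ≫ tr T hab ≫ v.app (op a) := by
    rw [tr_naturality, tr_naturality, reassoc_of% he b, tr_tr]
  rw [epi_iff_surjective_up_to_refinements]
  intro T₀ y
  obtain ⟨T₁, e₁, he₁, x, hx⟩ := surjective_up_to_refinements_of_epi (e a) y
  have : Epi (tr B (show a ≤ b + σ by omega)) := isStrict_of_isAdic hB _ _ _
  obtain ⟨T₂, e₂, he₂, z, hz⟩ := surjective_up_to_refinements_of_epi (tr B (show a ≤ b + σ by omega)) (x ≫ w a)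
  refine ⟨T₂, e₂ ≫ e₁, inferInstance, z ≫ u.app (op (b + σ)) ≫ e b, ?_⟩
  rw [← cancel_mono (v.app (op a)), Category.assoc e₂ e₁, hx]
  simp only [Category.assoc, he a]
  rw [← hw.inv_comp a, reassoc_of% hz, hkey]

theorem kerLEI_of_bdd : KerLEI J T σ := fun {n m} hnm T₀ x hx => by
  obtain ⟨B, u, w, hB, hw⟩ := h
  have : Epi (u.app (op (m + σ + σ)) ≫ e (m + σ)) := by
    rw [epi_iff_surjective_up_to_refinements]
    intro T₁ y
    obtain ⟨T₂, e₂, he₂, x', hx'⟩ := surjective_up_to_refinements_of_epi (e (m + σ)) y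
    have : Epi (tr B (show m + σ ≤ m + σ + σ by omega)) := isStrict_of_isAdic hB _ _ _
    obtain ⟨T₃, e₃, he₃, z, hz⟩ :=
      surjective_up_to_refinements_of_epi (tr B (show m + σ ≤ m + σ + σ by omega)) (x' ≫ w (m + σ))
    refine ⟨T₃, e₃ ≫ e₂, inferInstance, z, ?_⟩
    rw [← cancel_mono (v.app (op (m + σ))), Category.assoc e₃ e₂, hx']
    simp only [Category.assoc, he (m + σ)]
    rw [← hw.inv_comp (m + σ), reassoc_of% hz, reassoc_of% hw.comp_inv (m + σ)]
  obtain ⟨T₁, e₁, he₁, b, hb⟩ := surjective_up_to_refinements_of_epi (u.app (op (m + σ + σ)) ≫ e (m + σ)) x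
  refine lei_of_epi_comp e₁ ?_
  rw [hb]
  have h0 : b ≫ tr B (show n ≤ m + σ + σ by omega) = 0 := by
    have h1 : (b ≫ tr B (show n + σ ≤ m + σ + σ by omega)) ≫ u.app (op (n + σ)) = 0 := by
      have h2 := congrArg (fun k => e₁ ≫ k ≫ v.app (op (n + σ))) hx
      simp only [Category.assoc, zero_comp, comp_zero] at h2
      rw [reassoc_of% hb] at h2
      rw [Category.assoc, tr_naturality]
      rw [tr_naturality, reassoc_of% he (m + σ), tr_tr] at h2
      exact h2
    have h3 := congrArg (· ≫ w n) h1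
    simp only [Category.assoc, hw.comp_inv, sm, tr_tr, zero_comp] at h3
    exact h3
  exact lei_comp_right (IsAdicKer.lei hB _ h0) _

end

variable [IsNoetherianRing A] {ι : Type t} (Φ : ι → C ⥤ D) [∀ i, (Φ i).Additive] [∀ i, (Φ i).Linear A]
  [∀ i, PreservesFiniteLimits (Φ i)] [∀ i, PreservesFiniteColimits (Φ i)]
  (hΦ : ∀ {M N : C} (f : M ⟶ N), (∀ i, (Φ i).map f = 0) → f = 0)
  {P : C → Prop} (hPiso : ∀ {M N : C}, (M ≅ N) → P M → P N)
  (hPcoprod : ∀ {k : ℕ} (M : C), P M → P (∐ fun _ : Fin k => M))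
  (hPker : ∀ {M N : C} (f : M ⟶ N), P M → P N → P (kernel f))
  (hPcoker : ∀ {M N : C} (f : M ⟶ N), P M → P N → P (cokernel f))

include hΦ hPiso hPcoprod hPker hPcoker

theorem exists_adic_of_family {X : PS C} (hk : TermKilled J X) (hP : ∀ n : ℕ, P (X.obj (op n))) {σ : ℕ}
    (hb : ∀ i, Bdd J σ (X ⋙ Φ i)) :
    TermKilled J X ∧ ∃ (Y : PS C) (v : Y ⟶ X), IsAdic J Y ∧ (∀ n : ℕ, P (Y.obj (op n))) ∧ IsARIso v := by
  let S := subSys X _ (imFam_stable (X := X) σ)
  let v : S ⟶ X := subι X _ (imFam_stable σ)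
  have hvm : ∀ n, Mono (v.app n) := fun n => inferInstanceAs (Mono (imFam X σ n.unop).arrow)
  let e : ∀ n, X.obj (op (n + σ)) ⟶ S.obj (op n) := fun n => factorThruImageSubobject (sm X σ n)
  have hee : ∀ n, Epi (e n) := fun n => inferInstanceAs (Epi (factorThruImageSubobject _))
  have hev : ∀ n, e n ≫ v.app (op n) = sm X σ n := fun n => imageSubobject_arrow_comp _
  have hΦm : ∀ i n, Mono ((Functor.whiskerRight v (Φ i)).app n) := fun i n =>
    inferInstanceAs (Mono ((Φ i).map (v.app n)))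
  have hΦe : ∀ i n, Epi ((Φ i).map (e n)) := fun i n => inferInstance
  have hΦev : ∀ i n, (Φ i).map (e n) ≫ (Functor.whiskerRight v (Φ i)).app (op n) = sm (X ⋙ Φ i) σ n :=
    fun i n => ((Φ i).map_comp _ _).symm.trans (congrArg (Φ i).map (hev n))
  have hS : IsStrict S := isStrict_of_family Φ hΦ fun i =>
    strict_of_bdd (hb i) (Functor.whiskerRight v (Φ i)) (fun n => (Φ i).map (e n)) (hΦev i)
  have hker : KerLEI J S σ := kerLEI_of_family Φ hΦ fun i =>
    kerLEI_of_bdd (hb i) (Functor.whiskerRight v (Φ i)) (fun n => (Φ i).map (e n)) (hΦev i)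
  have hkS : TermKilled J S := fun n => by
    have := hee n
    exact killedBy_of_mono (v.app (op n)) (hk n)
  obtain ⟨Q, q, ψ, hq, -, hQ, hψ⟩ := exists_adic_of_kerLEI (hasQuots_of_noetherian J) hS hkS hker
  refine ⟨hk, Q, ψ ≫ v, hQ, fun n => ?_, isARIso_comp hψ
    (isARIso_subι _ _ _ fun n => image_le_iff.1 le_rfl)⟩
  have hPS : ∀ n : ℕ, P (S.obj (op n)) := fun n =>
    hPiso ((Abelian.imageIsoImage (sm X σ n)).trans (imageSubobjectIso (sm X σ n)).symm)
      (hPker (cokernel.π _) (hP n) (hPcoker _ (hP _) (hP _)))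
  obtain ⟨k, g, hg⟩ := Submodule.fg_iff_exists_fin_generating_family.1
    ((IsNoetherian.noetherian (J ^ (n + 1)) : (J ^ (n + 1)).FG))
  obtain ⟨Q', p', hp'⟩ := exists_isQuot_of_family (S.obj (op (n + σ))) g hg
  let d : (∐ fun _ : Fin k => S.obj (op (n + σ))) ⟶ S.obj (op (n + σ)) :=
    Sigma.desc fun i => g i • 𝟙 (S.obj (op (n + σ)))
  have hd : IsQuot (J ^ (n + 1)) (cokernel.π d) := by
    refine ⟨?_, fun Z φ hφ => ?_⟩
    · rw [← hg]
      refine killedBy_span ?_
      rintro _ ⟨i, rfl⟩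
      have := Sigma.ι (fun _ : Fin k => S.obj (op (n + σ))) i ≫= cokernel.condition d
      simp only [d, Sigma.ι_desc_assoc, comp_zero, Linear.smul_comp, Category.id_comp] at this
      rw [← cancel_epi (cokernel.π d), comp_zero, Linear.comp_smul, Category.comp_id, this]
    · refine ⟨cokernel.desc d φ ?_, cokernel.π_desc _ _ _, fun ψ' hψ' => ?_⟩
      · refine Sigma.hom_ext _ _ fun i => ?_
        simp only [d, Sigma.ι_desc_assoc, Linear.smul_comp, Category.id_comp, comp_zero]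
        exact hφ _ (hg ▸ Ideal.subset_span ⟨i, rfl⟩)
      · rw [← cancel_epi (cokernel.π d), hψ', cokernel.π_desc]
  obtain ⟨a, ha, -⟩ := hd.2 _ (q n) (homKilledBy_of_target (hq n).1 _)
  obtain ⟨b, hb', -⟩ := (hq n).2 _ (cokernel.π d) (homKilledBy_of_target hd.1 _)
  have := isQuot_epi (hq n)
  let iso : cokernel d ≅ Q.obj (op n) :=
    { hom := a
      inv := b
      hom_inv_id := by rw [← cancel_epi (cokernel.π d), reassoc_of% ha, hb', Category.comp_id]
      inv_hom_id := by rw [← cancel_epi (q n), reassoc_of% hb', ha, Category.comp_id] }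
  exact hPiso iso (hPcoker d (hPcoprod _ (hPS _)) (hPS _))

end Groth.Agent.EtModAR45
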