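import Groth.Agent.EtModAR45.Stalks
import Groth.Agent.Cons51.SpecArrow
import Groth.Agent.Cons51.StalkExt
import Groth.Agent.Mod48.EtConsSerre
import Groth.Agent.SpecSp50.FiniteApprox
import Mathlib.CategoryTheory.Sites.Point.Category

/-!
Stalk functors on locally constant systems over a connected Noetherian scheme; stalks of constructible sheaves.
-/

set_option autoImplicit false
set_option backward.isDefEq.respectTransparency.types false
universe u

open CategoryTheory CategoryTheory.Limits AlgebraicGeometry Opposite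
open Groth.Agent.Unr55.EtSh (Pt hom mkPt point_over)
open Groth.Agent.LocConst45.Mod

namespace Groth.Agent.EtModAR45

variable {Λ : Type (u + 1)} [CommRing Λ] {X : Scheme.{u}}

/-- Specialisation of stalks. -/
noncomputable def spec {Ω Ω' : Type u} [Field Ω] [IsSepClosed Ω] [Field Ω'] [IsSepClosed Ω']
    {ξ : Spec (CommRingCat.of Ω) ⟶ X} {ξ' : Spec (CommRingCat.of Ω') ⟶ X}
    (φ : Scheme.pointSmallEtale ξ' ⟶ Scheme.pointSmallEtale ξ) :
    EtModW.stalk Λ ξ ⟶ EtModW.stalk Λ ξ' :=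
  GrothendieckTopology.Point.Hom.sheafFiber φ

theorem spec_germ {Ω Ω' : Type u} [Field Ω] [IsSepClosed Ω] [Field Ω'] [IsSepClosed Ω']
    {ξ : Spec (CommRingCat.of Ω) ⟶ X} {ξ' : Spec (CommRingCat.of Ω') ⟶ X}
    (φ : Scheme.pointSmallEtale ξ' ⟶ Scheme.pointSmallEtale ξ) (F : EtModW.Mod Λ X) {U : X.Etale} (p : Pt ξ U)
    (s : EtModW.sect Λ F U) : (spec φ).app F (germ ξ F p s) = germ ξ' F (φ.hom.app U p) s :=
  ConcreteCategory.congr_hom ((Scheme.pointSmallEtale ξ).toPresheafFiber_presheafFiberDesc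
    (P := F.obj) (fun V x => (Scheme.pointSmallEtale ξ').toPresheafFiber V (φ.hom.app V x) F.obj)
    (fun V W f x => ((Scheme.pointSmallEtale ξ').toPresheafFiber_w f (φ.hom.app V x) F.obj).trans
      (congrArg (fun y => (Scheme.pointSmallEtale ξ').toPresheafFiber W y F.obj)
        (ConcreteCategory.congr_hom (φ.hom.naturality f) x).symm)) U p) s

theorem isIso_spec_of_ftlc {Ω Ω' : Type u} [Field Ω] [IsSepClosed Ω] [Field Ω'] [IsSepClosed Ω']
    {ξ : Spec (CommRingCat.of Ω) ⟶ X} {ξ' : Spec (CommRingCat.of Ω') ⟶ X}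
    (φ : Scheme.pointSmallEtale ξ' ⟶ Scheme.pointSmallEtale ξ) {F : EtModW.Mod Λ X}
    (hF : EtModW.IsFTLocConst Λ F) : IsIso ((spec φ).app F) := by
  obtain ⟨U, u, M, _, _, _, σ, hu, hσ⟩ := (ftLocConst_iff F).1 hF (ξ default)
  obtain ⟨p⟩ := EtCore45.exists_pt U ξ ⟨u, hu⟩
  refine (ConcreteCategory.isIso_iff_bijective _).2
    ((Function.Bijective.of_comp_iff _ (EtModTens45.bijective_germ_triv hσ ξ p)).1 ?_)
  convert EtModTens45.bijective_germ_triv hσ ξ' (φ.hom.app U p) using 1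
  funext m
  exact spec_germ φ F p (σ m)

/-- The isomorphism of stalk systems given by a specialisation. -/
theorem nonempty_iso_of_hom {J : Type*} [Category J] (F : J ⥤ EtModW.Mod Λ X)
    (hF : ∀ j, EtModW.IsFTLocConst Λ (F.obj j)) {Ω Ω' : Type u} [Field Ω] [IsSepClosed Ω] [Field Ω'] [IsSepClosed Ω']
    {ξ : Spec (CommRingCat.of Ω) ⟶ X} {ξ' : Spec (CommRingCat.of Ω') ⟶ X}
    (φ : Scheme.pointSmallEtale ξ' ⟶ Scheme.pointSmallEtale ξ) :
    Nonempty (F ⋙ EtModW.stalk Λ ξ ≅ F ⋙ EtModW.stalk Λ ξ') :=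
  haveI : ∀ j, IsIso ((Functor.whiskerLeft F (spec φ)).app j) := fun j => isIso_spec_of_ftlc φ (hF j)
  haveI : IsIso (Functor.whiskerLeft F (spec φ)) := NatIso.isIso_of_isIso_app _
  ⟨asIso (Functor.whiskerLeft F (spec φ))⟩

/-- A field extension as a map of points. -/
noncomputable def extHom {Ω Ω' : Type u} [Field Ω] [IsSepClosed Ω] [Field Ω'] [IsSepClosed Ω']
    (c : Spec (CommRingCat.of Ω') ⟶ Spec (CommRingCat.of Ω)) (η : Spec (CommRingCat.of Ω) ⟶ X) :
    Scheme.pointSmallEtale (c ≫ η) ⟶ Scheme.pointSmallEtale η :=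
  ⟨{ app := fun V => TypeCat.ofHom fun t => Cons51.ptExt c η t
     naturality := fun V W g => ConcreteCategory.hom_ext _ _ fun t => Cons51.ptExt_map c η g t }⟩

theorem nonempty_iso_of_eq {J : Type*} [Category J] (F : J ⥤ EtModW.Mod Λ X)
    (hF : ∀ j, EtModW.IsFTLocConst Λ (F.obj j)) {Ω Ω' : Type u} [Field Ω] [IsSepClosed Ω] [Field Ω'] [IsSepClosed Ω']
    (η : Spec (CommRingCat.of Ω) ⟶ X) (η' : Spec (CommRingCat.of Ω') ⟶ X) (h : η default = η' default) :
    Nonempty (F ⋙ EtModW.stalk Λ η ≅ F ⋙ EtModW.stalk Λ η') := by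
  obtain ⟨z, -, -⟩ := Scheme.Pullback.exists_preimage_pullback (f := η) (g := η') default default h
  let K := AlgebraicClosure ((pullback η η').residueField z)
  let k : Spec (CommRingCat.of K) ⟶ pullback η η' :=
    Spec.map (CommRingCat.ofHom (algebraMap ((pullback η η').residueField z) K)) ≫
      (pullback η η').fromSpecResidueField z
  have hk : (k ≫ pullback.fst η η') ≫ η = (k ≫ pullback.snd η η') ≫ η' := by
    simp only [Category.assoc, pullback.condition]
  have h1 := nonempty_iso_of_hom F hF (extHom (k ≫ pullback.fst η η') η)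
  rw [hk] at h1
  obtain ⟨e⟩ := h1
  obtain ⟨e'⟩ := nonempty_iso_of_hom F hF (extHom (k ≫ pullback.snd η η') η')
  exact ⟨e ≪≫ e'.symm⟩

theorem exists_point (x : X) : ∃ (Ω : Type u) (_ : Field Ω) (_ : IsSepClosed Ω)
    (ξ : Spec (CommRingCat.of Ω) ⟶ X), ξ default = x := by
  obtain ⟨Ω, i1, i2, ξ, t, ht⟩ := point_over (EtCoh.top X) x
  refine ⟨Ω, i1, i2, ξ, ?_⟩
  have : hom ξ t = ξ := (Category.comp_id _).symm.trans (Over.w t)
  rwa [this] at ht

/-- Stalk systems of a locally constant system on a connected Noetherian scheme are isomorphic. -/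
theorem nonempty_iso_stalk [IsNoetherian X] [ConnectedSpace X] {J : Type*} [Category J] (F : J ⥤ EtModW.Mod Λ X)
    (hF : ∀ j, EtModW.IsFTLocConst Λ (F.obj j)) {Ω Ω' : Type u} [Field Ω] [IsSepClosed Ω] [Field Ω'] [IsSepClosed Ω']
    (η : Spec (CommRingCat.of Ω) ⟶ X) (η' : Spec (CommRingCat.of Ω') ⟶ X) :
    Nonempty (F ⋙ EtModW.stalk Λ η ≅ F ⋙ EtModW.stalk Λ η') := by
  suffices ∀ x y : X, ∀ (K K' : Type u) [Field K] [IsSepClosed K] [Field K'] [IsSepClosed K']
      (a : Spec (CommRingCat.of K) ⟶ X) (b : Spec (CommRingCat.of K') ⟶ X), a default = x → b default = y →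
      Nonempty (F ⋙ EtModW.stalk Λ a ≅ F ⋙ EtModW.stalk Λ b) from this _ _ Ω Ω' η η' rfl rfl
  intro x y
  induction SpecSp50.eqvGen_specializes X x y with
  | rel g z hgz =>
    intro K K' _ _ _ _ a b ha hb
    let q : Pt b (EtCoh.top X) := mkPt b b (Category.comp_id b)
    have hq : ∀ {L : Type u} [Field L] [IsSepClosed L] (c : Spec (CommRingCat.of L) ⟶ X)
        (t : Pt c (EtCoh.top X)), hom c t = c := fun c t => (Category.comp_id _).symm.trans (Over.w t)
    obtain ⟨K₁, _, _, a₁, φ, hg⟩ := Cons51.exists_specArrow b q g (hgz.trans (specializes_of_eq (hb.symm.trans (congrArg (fun l => l default) (hq b q)).symm)))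
    have ha₁ : a₁ default = g := by rwa [hq a₁ (φ.hom.app _ q)] at hg
    obtain ⟨e⟩ := nonempty_iso_of_hom F hF φ
    obtain ⟨e'⟩ := nonempty_iso_of_eq F hF a a₁ (ha.trans ha₁.symm)
    exact ⟨e' ≪≫ e.symm⟩
  | refl x => intro K K' _ _ _ _ a b ha hb; exact nonempty_iso_of_eq F hF a b (ha.trans hb.symm)
  | symm x y _ ih => intro K K' _ _ _ _ a b ha hb; exact (ih K' K b a hb ha).map Iso.symm
  | trans x y z _ _ ih₁ ih₂ =>
    intro K K' _ _ _ _ a b ha hb
    obtain ⟨K₁, _, _, c, hc⟩ := exists_point y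
    obtain ⟨e₁⟩ := ih₁ K K₁ a c ha hc
    obtain ⟨e₂⟩ := ih₂ K₁ K' c b hc hb
    exact ⟨e₁ ≪≫ e₂⟩

/-- Stalks of constructible sheaves are finite. -/
theorem finite_stalk {F : EtModW.Mod Λ X} (hF : EtModW.IsConstructible Λ F) {Ω : Type u} [Field Ω] [IsSepClosed Ω]
    (η : Spec (CommRingCat.of Ω) ⟶ X) :
    Module.Finite Λ ((EtModW.stalk Λ η).obj F : ModuleCat.{u + 1} Λ) := by
  obtain ⟨V, -, hxV, -, κ, hκ, E, -, -, hcov, hflc⟩ :=
    Mod48.EtCons.exists_strataCover hF isOpen_univ (x := η default) trivial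
  obtain ⟨k, hk⟩ := Set.mem_iUnion.1 (hcov hxV)
  obtain ⟨T, g, hg, hgr, hT⟩ := hflc k
  obtain ⟨ζ, rfl⟩ := Cons51.exists_lift η g (by
    rintro _ ⟨a, rfl⟩
    rw [Unr55.EtSh.default_eq a]
    exact hgr.ge hk)
  have := finite_of_ftlc ζ hT
  exact Module.Finite.equiv (LinearEquiv.ofBijective (theta g ζ F).hom (theta_bijective g ζ F)).symm

end Groth.Agent.EtModAR45
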