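import Groth.Agent.EtModAR45.Layers
import Groth.Agent.EtModAR45.Spec
import Groth.Agent.Six47.PullExact

/-!
On an irreducible scheme an adic system is locally constant as soon as its first few members are.
-/

set_option autoImplicit false
set_option backward.isDefEq.respectTransparency.types false
universe u

open CategoryTheory CategoryTheory.Limits AlgebraicGeometry Opposite ARSys
open Groth.Agent.Unr55.EtSh (Pt hom point_over ptUp)
open Groth.Agent.LocConst45.Mod

namespace Groth.Agent.EtModAR45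

attribute [local instance] Abelian.hasFiniteBiproducts

variable {Λ : Type (u + 1)} [CommRing Λ] {X S : Scheme.{u}}

theorem theta_natural (g : S ⟶ X) {Ω : Type u} [Field Ω] [IsSepClosed Ω] (ζ : Spec (CommRingCat.of Ω) ⟶ S)
    {F G : EtModW.Mod Λ X} (φ : F ⟶ G) (a : ((EtModW.stalk Λ (ζ ≫ g)).obj F : ModuleCat.{u + 1} Λ)) :
    (EtModW.stalk Λ ζ).map ((EtModW.pull Λ g).map φ) (theta g ζ F a) =
      theta g ζ G ((EtModW.stalk Λ (ζ ≫ g)).map φ a) := by
  obtain ⟨V, t, σ, rfl⟩ := exists_germ_eq (ζ ≫ g) F a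
  rw [theta_germ, stalk_map_germ, stalk_map_germ, theta_germ]
  refine congrArg (germ ζ _ (ptUp g ζ t)) ?_
  exact (congrArg (fun k : F ⟶ (EtModW.push Λ g).obj ((EtModW.pull Λ g).obj G) => k.hom.app (op V) σ)
    ((modAdj Λ g).unit.naturality φ)).symm

/-- A subsheaf of a locally constant sheaf on an irreducible scheme with zero generic stalk is zero. -/
theorem isZero_of_generic [IrreducibleSpace S] {R G : EtModW.Mod Λ S} (j : R ⟶ G) [Mono j]
    (hG : EtModW.IsFTLocConst Λ G) {Ω : Type u} [Field Ω] [IsSepClosed Ω] (η : Spec (CommRingCat.of Ω) ⟶ S)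
    (hη : η default = genericPoint S)
    (h : ∀ a : ((EtModW.stalk Λ η).obj R : ModuleCat.{u + 1} Λ), a = 0) : IsZero R := by
  rw [IsZero.iff_id_eq_zero, ← cancel_mono j, Category.id_comp, zero_comp]
  refine eq_zero_of_stalks j fun K _ _ ξ => stalk_hom_ext ξ fun U t σ => ?_
  rw [stalk_map_germ]
  obtain ⟨U₀, u₀, M, _, _, _, τ, hu₀, hτ⟩ := (ftLocConst_iff G).1 hG (ξ default)
  obtain ⟨p₀⟩ := EtCore45.exists_pt U₀ ξ ⟨u₀, hu₀⟩
  obtain ⟨⟨V₁, t₁⟩, c, e, -⟩ := IsCofiltered.toIsCofilteredOrEmpty.cone_objs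
    (C := (Scheme.pointSmallEtale ξ).fiber.Elements) ⟨U, t⟩ ⟨U₀, p₀⟩
  obtain ⟨V₂, g, v, m, hv, hm⟩ := hτ.surj V₁ e.val (G.obj.map c.val.op (j.hom.app (op U) σ)) (hom ξ t₁ default)
  obtain ⟨t₂, ht₂⟩ := LocConst45.exists_pt_over g t₁ v hv
  have hg : germ ξ G t (j.hom.app (op U) σ) = germ ξ G t₂ (G.obj.map (g ≫ e.val).op (τ m)) := by
    rw [← hm, germ_map, ht₂, germ_map, c.property]
  refine hg.trans ?_
  suffices m = 0 by rw [this, map_zero, map_zero, map_zero]; rfl
  have : Etale V₂.hom := V₂.prop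
  obtain ⟨p⟩ := EtCore45.exists_pt V₂ η (by
    rw [hη]
    exact ((genericPoint_spec S).mem_open_set_iff V₂.hom.isOpenMap.isOpen_range).2
      ⟨_, Set.mem_univ _, ⟨v, rfl⟩⟩)
  refine (EtModTens45.bijective_germ_triv (hτ.restrict (g ≫ e.val)) η p).1 ?_
  show germ η G p (G.obj.map (g ≫ e.val).op (τ m)) = germ η G p (G.obj.map (g ≫ e.val).op (τ 0))
  rw [map_zero τ, map_zero, map_zero, ← hm, ← map_comp' G g c.val]
  have h0 := h (germ η R p (R.obj.map (g ≫ c.val).op σ))
  have h1 := congrArg ((EtModW.stalk Λ η).map j) h0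
  rw [stalk_map_germ, map_zero] at h1
  refine Eq.trans ?_ h1
  exact congrArg (germ η G p) (NatTrans.naturality_apply j.hom (g ≫ c.val).op σ).symm

variable [IsNoetherianRing Λ]

theorem isFTLocConst_biproduct_fin : ∀ {m : ℕ} (A : Fin m → EtModW.Mod Λ X),
    (∀ i, EtModW.IsFTLocConst Λ (A i)) → EtModW.IsFTLocConst Λ (⨁ A)
  | 0, A, _ => by
    refine ModCons93.ftlc_of_iso
      (IsZero.iso ((constantSheaf X.smallEtaleTopology (ModuleCat.{u + 1} Λ)).map_isZero
        (ModuleCat.isZero_of_subsingleton (ModuleCat.of Λ PUnit.{u + 2}))) ?_) (Mod48.EtCons.ftlc_const PUnit.{u + 2})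
    rw [IsZero.iff_id_eq_zero]
    exact biproduct.hom_ext' _ _ fun i => i.elim0
  | m + 1, A, h => by
    let f : (⨁ fun i : Fin m => A i.succ) ⟶ ⨁ A := biproduct.desc fun i => biproduct.ι A i.succ
    have w : f ≫ biproduct.π A 0 = 0 := biproduct.hom_ext' _ _ fun i => by
      simp [f, biproduct.ι_π_ne _ (Fin.succ_ne_zero i)]
    let σ : (ShortComplex.mk f (biproduct.π A 0) w).Splitting :=
      { r := biproduct.lift fun i => biproduct.π A i.succ
        s := biproduct.ι A 0
        f_r := biproduct.hom_ext' _ _ fun i => biproduct.hom_ext _ _ fun j => by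
          simp [f, biproduct.ι_π, Fin.succ_inj]
        s_g := biproduct.ι_π_self A 0
        id := by
          have e : biproduct.lift (fun i : Fin m => biproduct.π A i.succ) ≫ f =
              ∑ i : Fin m, biproduct.π A i.succ ≫ biproduct.ι A i.succ := by
            simp [f, biproduct.lift_desc]
          dsimp only
          rw [e]
          exact (add_comm _ _).trans
            ((Fin.sum_univ_succ fun i => biproduct.π A i ≫ biproduct.ι A i).symm.trans biproduct.total) }
    exact (LocConst45.Mod.ft_weakSerre Λ X).2.prop_X₂_of_shortExact σ.shortExact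
      (isFTLocConst_biproduct_fin _ fun i => h i.succ) (h 0)

variable {I : Ideal Λ} {F : PS (EtModW.Mod Λ X)}

theorem exists_bound (hF : IsAdic I F) {Ω : Type u} [Field Ω] [IsSepClosed Ω] (η : Spec (CommRingCat.of Ω) ⟶ X)
    (h0 : Module.Finite Λ ((EtModW.stalk Λ η).obj (F.obj (op 0)) : ModuleCat.{u + 1} Λ)) :
    ∃ d, ∀ (S : Scheme.{u}) (_ : IrreducibleSpace S) (g : S ⟶ X) (ζ : Spec (CommRingCat.of Ω) ⟶ S),
      ζ default = genericPoint S → ζ ≫ g = η →
      (∀ n, n ≤ d + 1 → EtModW.IsFTLocConst Λ ((EtModW.pull Λ g).obj (F.obj (op n)))) →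
      ∀ n, EtModW.IsFTLocConst Λ ((EtModW.pull Λ g).obj (F.obj (op n))) := by
  obtain ⟨k, Θ, δ, hδ, hF'⟩ := exists_layers hF
  obtain ⟨hsurj, hex⟩ := hF' (EtModW.stalk Λ η)
  obtain ⟨d, hd⟩ := hex h0
  refine ⟨d, fun S _ g ζ hζ hgζ hle => ?_⟩
  subst hgζ
  let P := EtModW.pull Λ g
  have := Six47.preservesFiniteLimits_pullMod Λ g
  have := Six47.preservesFiniteColimits_pullMod Λ g
  have ws := LocConst45.Mod.ft_weakSerre Λ S
  have hses : ∀ q, ((ShortComplex.mk (layι F (q + 1)) (tr F q.le_succ) (kernel.condition _)).map P).ShortExact :=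
    fun q => (layShortExact hF q).map_of_exact P
  have hlay : ∀ q, (EtModW.IsFTLocConst Λ (P.obj (F.obj (op (q + 1)))) ∧ EtModW.IsFTLocConst Λ (P.obj (F.obj (op q)))) →
      EtModW.IsFTLocConst Λ (P.obj (lay F (q + 1))) := fun q hq =>
    ModCons93.ftlc_of_iso (PreservesKernel.iso P (tr F q.le_succ)).symm (ws.1 _ _ (P.map (tr F q.le_succ)) hq.1 hq.2).1
  suffices ∀ q, EtModW.IsFTLocConst Λ (P.obj (lay F q)) by
    intro n
    induction n with
    | zero => exact hle 0 (Nat.zero_le _)
    | succ n ih => exact ws.2.prop_X₂_of_shortExact (hses n) (this (n + 1)) ih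
  intro q
  induction q using Nat.strong_induction_on with
  | _ q ih =>
    by_cases hq : q ≤ d + 1
    · cases q with
      | zero => exact hle 0 hq
      | succ q => exact hlay q ⟨hle _ hq, hle _ (by omega)⟩
    obtain ⟨q, rfl⟩ : ∃ p, q = p + 2 := ⟨q - 2, by omega⟩
    have hbip : ∀ {ι : Type} [Fintype ι] (M : EtModW.Mod Λ X), EtModW.IsFTLocConst Λ (P.obj M) →
        EtModW.IsFTLocConst Λ (P.obj (⨁ fun _ : ι => M)) := by
      intro ι _ M hM
      obtain ⟨m, ⟨e⟩⟩ := Finite.exists_equiv_fin ι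
      refine ModCons93.ftlc_of_iso (P.mapBiproduct (fun _ : ι => M)).symm ?_
      exact ModCons93.ftlc_of_iso (biproduct.whiskerEquiv e.symm fun _ => Iso.refl _)
        (isFTLocConst_biproduct_fin (fun _ : Fin m => P.obj M) fun _ => hM)
    let c := cokernel (P.map (δ q))
    have hc : EtModW.IsFTLocConst Λ c :=
      (ws.1 _ _ _ (hbip _ (ih q (by omega))) (hbip _ (ih (q + 1) (by omega)))).2
    let e : c ⟶ P.obj (lay F (q + 2)) := cokernel.desc _ (P.map (Θ (q + 1))) (by
      rw [← P.map_comp, hδ, P.map_zero])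
    have hepiΘ : Epi (Θ (q + 1)) := by
      refine Preadditive.epi_of_cokernel_zero (eq_zero_of_stalks _ fun K _ _ ξ => ?_)
      have : Epi ((EtModW.stalk Λ ξ).map (Θ (q + 1))) :=
        (ModuleCat.epi_iff_surjective _).2 ((hF' (EtModW.stalk Λ ξ)).1 _)
      rw [← cancel_epi ((EtModW.stalk Λ ξ).map (Θ (q + 1))), ← Functor.map_comp, cokernel.condition,
        Functor.map_zero, comp_zero]
    have : Epi e := by
      have : Epi (cokernel.π (P.map (δ q)) ≫ e) := by rw [cokernel.π_desc]; infer_instance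
      exact epi_of_epi (cokernel.π _) e
    have : Mono e := by
      refine Preadditive.mono_of_kernel_zero ?_
      refine (IsZero.eq_of_src (isZero_of_generic (kernel.ι e) hc ζ hζ fun a => ?_) _ _)
      refine (ModuleCat.mono_iff_injective _).1 (inferInstance : Mono ((EtModW.stalk Λ ζ).map (kernel.ι e))) ?_
      rw [map_zero]
      generalize hb : (EtModW.stalk Λ ζ).map (kernel.ι e) a = b
      have he : (EtModW.stalk Λ ζ).map e b = 0 := by
        rw [← hb, ← ConcreteCategory.comp_apply, ← Functor.map_comp, kernel.condition, Functor.map_zero]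
        rfl
      obtain ⟨z', hz'⟩ := (ModuleCat.epi_iff_surjective _).1
        (inferInstance : Epi ((EtModW.stalk Λ ζ).map (cokernel.π (P.map (δ q))))) b
      obtain ⟨z, rfl⟩ := (theta_bijective g ζ _).2 z'
      rw [← hz', ← ConcreteCategory.comp_apply, ← Functor.map_comp, cokernel.π_desc, theta_natural] at he
      obtain ⟨w, hw⟩ := hd q (by omega) z
        ((theta_bijective g ζ _).1 (he.trans (map_zero (theta g ζ (lay F (q + 2))).hom).symm))
      rw [← hz', ← hw, ← theta_natural, ← ConcreteCategory.comp_apply, ← Functor.map_comp, cokernel.condition,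
        Functor.map_zero]
      rfl
    have := isIso_of_mono_of_epi e
    exact ModCons93.ftlc_of_iso (asIso e) hc

end Groth.Agent.EtModAR45
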