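import Groth.Agent.EtModAR45.Detect
import Groth.Agent.EtModAR45.LayFlc
import Groth.Agent.Mod48.EtConsSerre
import Groth.Agent.ModCons93.Basic

/-!
Adic up to translation systems of constructible sheaves: detection on geometric points.
-/

set_option autoImplicit false
set_option backward.isDefEq.respectTransparency.types false
universe u

open CategoryTheory CategoryTheory.Limits AlgebraicGeometry Opposite ARSys
open Groth.Agent.Unr55.EtSh (Pt hom point_over)
open Groth.Agent.LocConst45.Mod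

namespace Groth.Agent.EtModAR45

variable {Λ : Type (u + 1)} [CommRing Λ] {X : Scheme.{u}}

/-- The stalk of an inverse image, naturally. -/
noncomputable def stalkPullModIso {S : Scheme.{u}} (g : S ⟶ X) {Ω : Type u} [Field Ω] [IsSepClosed Ω]
    (ζ : Spec (CommRingCat.of Ω) ⟶ S) :
    EtModW.stalk Λ (ζ ≫ g) ≅ EtModW.pull Λ g ⋙ EtModW.stalk Λ ζ :=
  NatIso.ofComponents
    (fun F => @asIso _ _ _ _ (theta g ζ F) ((ConcreteCategory.isIso_iff_bijective _).2 (theta_bijective g ζ F)))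
    fun {F G} φ => ConcreteCategory.hom_ext _ _ fun a => (theta_natural g ζ φ a).symm

variable [IsNoetherianRing Λ] {I : Ideal Λ} {F : PS (EtModW.Mod Λ X)}

/-- The stalk system at `x` is adic up to the shift `σ`. -/
def BddAt (I : Ideal Λ) (σ : ℕ) (F : PS (EtModW.Mod Λ X)) {Ω : Type u} [Field Ω] [IsSepClosed Ω]
    (x : Spec (CommRingCat.of Ω) ⟶ X) : Prop :=
  Bdd I σ (F ⋙ EtModW.stalk Λ x)

theorem arAdic_of_stalks (hk : TermKilled I F) (hc : ∀ n : ℕ, EtModW.IsConstructible Λ (F.obj (op n))) {σ : ℕ}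
    (hb : ∀ (K : Type u) [Field K] [IsSepClosed K] (η : Spec (CommRingCat.of K) ⟶ X), BddAt I σ F η) :
    TermKilled I F ∧ ∃ (Y : PS (EtModW.Mod Λ X)) (v : Y ⟶ F),
      IsAdic I Y ∧ (∀ n : ℕ, EtModW.IsConstructible Λ (Y.obj (op n))) ∧ IsARIso v := by
  let ι : Type (u + 1) :=
    Σ' (K : Type u) (_ : Field K) (_ : IsSepClosed K), (Spec (CommRingCat.of K) ⟶ X)
  let Φ : ι → EtModW.Mod Λ X ⥤ ModuleCat.{u + 1} Λ := fun p =>
    letI := p.2.1
    haveI := p.2.2.1
    EtModW.stalk Λ p.2.2.2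
  have : ∀ p, (Φ p).Additive := fun p => letI := p.2.1; haveI := p.2.2.1; inferInstanceAs (EtModW.stalk Λ p.2.2.2).Additive
  have : ∀ p, (Φ p).Linear Λ := fun p =>
    letI := p.2.1; haveI := p.2.2.1; inferInstanceAs ((EtModW.stalk Λ p.2.2.2).Linear Λ)
  have : ∀ p, PreservesFiniteLimits (Φ p) := fun p =>
    letI := p.2.1; haveI := p.2.2.1; inferInstanceAs (PreservesFiniteLimits (EtModW.stalk Λ p.2.2.2))
  have : ∀ p, PreservesFiniteColimits (Φ p) := fun p =>
    letI := p.2.1; haveI := p.2.2.1; inferInstanceAs (PreservesFiniteColimits (EtModW.stalk Λ p.2.2.2))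
  exact exists_adic_of_family Φ (fun φ h => eq_zero_of_stalks φ fun K i₁ i₂ η => h ⟨K, i₁, i₂, η⟩)
    (P := EtModW.IsConstructible Λ) (fun e h => ModCons93.isConstructible_of_iso e h)
    (fun {k} M h => Mod48.EtCons.isConstructible_coproduct_fin _ fun _ => h)
    (fun f h h' => (Mod48.EtCons.isConstructible_kernel_cokernel f h h').1)
    (fun f h h' => (Mod48.EtCons.isConstructible_kernel_cokernel f h h').2)
    hk hc (σ := σ) fun p => letI := p.2.1; haveI := p.2.2.1; hb p.1 p.2.2.2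

/-- A piece on which the system is adic up to translation gives a uniform shift at its points. -/
theorem exists_bddAt_of_piece {S : Scheme.{u}} (g : S ⟶ X) {Y : PS (EtModW.Mod Λ S)}
    {v : Y ⟶ F ⋙ EtModW.pull Λ g} (hY : IsAdic I Y) (hv : IsARIso v) :
    ∃ σ, ∀ σ', σ ≤ σ' → ∀ (K : Type u) [Field K] [IsSepClosed K] (ζ : Spec (CommRingCat.of K) ⟶ S),
      BddAt I σ' F (ζ ≫ g) := by
  obtain ⟨σ, hσ⟩ := exists_bdd hY hv
  exact ⟨σ, fun σ' h K _ _ ζ => ((hσ.mono h).map (EtModW.stalk Λ ζ)).of_iso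
    (Functor.associator F (EtModW.pull Λ g) (EtModW.stalk Λ ζ) ≪≫
      Functor.isoWhiskerLeft F (stalkPullModIso g ζ).symm)⟩

/-- Being adic up to translation can be checked on finitely many pieces covering all geometric points. -/
theorem arAdic_of_pieces (hk : TermKilled I F) (hc : ∀ n : ℕ, EtModW.IsConstructible Λ (F.obj (op n)))
    {ι : Type*} [Finite ι] (S : ι → Scheme.{u}) (g : ∀ i, S i ⟶ X)
    (hpts : ∀ (K : Type u) [Field K] [IsSepClosed K] (η : Spec (CommRingCat.of K) ⟶ X),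
      ∃ i, ∃ ζ : Spec (CommRingCat.of K) ⟶ S i, ζ ≫ g i = η)
    (h : ∀ i, ∃ (Y : PS (EtModW.Mod Λ (S i))) (v : Y ⟶ F ⋙ EtModW.pull Λ (g i)), IsAdic I Y ∧ IsARIso v) :
    TermKilled I F ∧ ∃ (Y : PS (EtModW.Mod Λ X)) (v : Y ⟶ F),
      IsAdic I Y ∧ (∀ n : ℕ, EtModW.IsConstructible Λ (Y.obj (op n))) ∧ IsARIso v := by
  have : ∀ i, ∃ σ, ∀ σ', σ ≤ σ' → ∀ (K : Type u) [Field K] [IsSepClosed K] (ζ : Spec (CommRingCat.of K) ⟶ S i),
      BddAt I σ' F (ζ ≫ g i) := fun i => by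
    obtain ⟨Y, v, hY, hv⟩ := h i
    exact exists_bddAt_of_piece (g i) hY hv
  choose σ hσ using this
  obtain ⟨M, hM⟩ := (Set.finite_range σ).bddAbove
  refine arAdic_of_stalks hk hc (σ := M) fun K _ _ η => ?_
  obtain ⟨i, ζ, rfl⟩ := hpts K η
  exact hσ i M (hM ⟨i, rfl⟩) K ζ

end Groth.Agent.EtModAR45
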