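import Mathlib.RingTheory.Adjoin.FG
import Mathlib.RingTheory.FiniteType
import Mathlib.RingTheory.Noetherian.Basic
import Mathlib.Algebra.DirectSum.Module
import Mathlib.RingTheory.Finiteness.Basic

/-!
The first Koszul homology of a finitely generated graded module over a polynomial ring lives in finitely many degrees.
-/

set_option autoImplicit false
set_option linter.unusedSectionVars false
universe w v

open DirectSum

namespace Groth.Agent.EtModAR45

variable {A : Type w} [CommRing A] [IsNoetherianRing A] {K : ℕ → Type v} [∀ q, AddCommGroup (K q)]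
  [∀ q, Module A (K q)] {k : ℕ}

/-- An operator of degree one, on the total module. -/
noncomputable def totalOp (θ : ∀ q, K q →ₗ[A] K (q + 1)) : Module.End A (⨁ q, K q) :=
  toModule A ℕ _ fun q => (lof A ℕ K (q + 1)).comp (θ q)

theorem totalOp_lof (θ : ∀ q, K q →ₗ[A] K (q + 1)) (q : ℕ) (x : K q) :
    totalOp θ (lof A ℕ K q x) = lof A ℕ K (q + 1) (θ q x) := toModule_lof _ _ _

theorem totalOp_component_succ (θ : ∀ q, K q →ₗ[A] K (q + 1)) (q : ℕ) (x : ⨁ q, K q) :
    component A ℕ K (q + 1) (totalOp θ x) = θ q (component A ℕ K q x) := by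
  refine LinearMap.congr_fun (f := (component A ℕ K (q + 1)).comp (totalOp θ))
    (g := (θ q).comp (component A ℕ K q)) (linearMap_ext _ fun j => LinearMap.ext fun y => ?_) x
  simp only [LinearMap.comp_apply, totalOp_lof]
  by_cases h : j = q
  · subst h; simp [component.lof_self]
  · simp [component.of, h]

variable (θ : Fin k → ∀ q, K q →ₗ[A] K (q + 1))

/-- The Koszul boundary of `c`. -/
def bdry (q : ℕ) (c : Fin k → Fin k → K q) : Fin k → K (q + 1) :=
  fun i => ∑ j, θ j q (c i j - c j i)

/-- The Koszul differential. -/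
def dKos (q : ℕ) (z : Fin k → K q) : K (q + 1) := ∑ i, θ i q (z i)

theorem dKos_bdry (hc : ∀ i j q x, θ i (q + 1) (θ j q x) = θ j (q + 1) (θ i q x)) (q : ℕ)
    (c : Fin k → Fin k → K q) : dKos θ (q + 1) (bdry θ q c) = 0 := by
  simp only [dKos, bdry, map_sub, map_sum, Finset.sum_sub_distrib]
  rw [sub_eq_zero, Finset.sum_comm]
  exact Finset.sum_congr rfl fun i _ => Finset.sum_congr rfl fun j _ => hc _ _ _ _

theorem op_eq_bdry (q : ℕ) (z : Fin k → K q) (hz : dKos θ q z = 0) (l : Fin k) :
    bdry θ q (fun i j => if j = l then z i else 0) = fun i => θ l q (z i) := by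
  funext i
  classical
  simp only [bdry, map_sub, Finset.sum_sub_distrib, apply_ite (θ _ q), map_zero, Finset.sum_ite_eq',
    Finset.mem_univ, if_true]
  by_cases h : i = l
  · subst h
    simp only [if_true]
    rw [show ∑ j, θ j q (z j) = 0 from hz, sub_zero]
  · simp [h]

theorem exists_bdry_of_degree (hc : ∀ i j q x, θ i (q + 1) (θ j q x) = θ j (q + 1) (θ i q x))
    (hfin : Module.Finite A (K 0)) (hgen : ∀ q (y : K (q + 1)), ∃ z, dKos θ q z = y) :
    ∃ d, ∀ q, d ≤ q → ∀ z : Fin k → K (q + 1), dKos θ (q + 1) z = 0 → ∃ c, bdry θ q c = z := by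
  classical
  let Θ : Fin k → Module.End A (⨁ q, K q) := fun i => totalOp (θ i)
  have hΘ : ∀ i j, Θ i * Θ j = Θ j * Θ i := fun i j => linearMap_ext _ fun q => LinearMap.ext fun x => by
    show Θ i (Θ j (lof A ℕ K q x)) = Θ j (Θ i (lof A ℕ K q x))
    simp only [Θ, totalOp_lof, hc]
  let R : Subalgebra A (Module.End A (⨁ q, K q)) := Algebra.adjoin A (Set.range Θ)
  letI : CommRing R := Algebra.adjoinCommRingOfComm A (by rintro _ ⟨i, rfl⟩ _ ⟨j, rfl⟩; exact hΘ i j)
  have hft : Algebra.FiniteType A R :=
    (Subalgebra.fg_iff_finiteType R).1 ⟨(Set.finite_range Θ).toFinset, by rw [Set.Finite.coe_toFinset]⟩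
  have : IsNoetherianRing R := Algebra.FiniteType.isNoetherianRing A R
  let T : Fin k → R := fun i => ⟨Θ i, Algebra.subset_adjoin ⟨i, rfl⟩⟩
  have hMfin : Module.Finite R (⨁ q, K q) := by
    obtain ⟨s, hs⟩ := hfin.fg_top
    refine ⟨⟨s.image (lof A ℕ K 0), ?_⟩⟩
    rw [eq_top_iff]
    suffices ∀ q (x : K q), lof A ℕ K q x ∈ Submodule.span R ((s.image (lof A ℕ K 0) : Finset _) : Set (⨁ q, K q)) by
      intro x _
      induction x using DirectSum.induction_on with
      | zero => exact zero_mem _
      | of q x => exact this q x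
      | add a b ha hb => exact add_mem (ha trivial) (hb trivial)
    intro q
    induction q with
    | zero =>
      intro x
      have hx : x ∈ Submodule.span A (s : Set (K 0)) := hs ▸ trivial
      induction hx using Submodule.span_induction with
      | mem y hy => exact Submodule.subset_span (Finset.mem_coe.2 (Finset.mem_image_of_mem _ hy))
      | zero => rw [map_zero]; exact zero_mem _
      | add a b _ _ ha hb => rw [map_add]; exact add_mem ha hb
      | smul r a _ ha =>
        rw [map_smul, ← IsScalarTower.algebraMap_smul R r]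
        exact Submodule.smul_mem _ _ ha
    | succ q ih =>
      intro y
      obtain ⟨z, rfl⟩ := hgen q y
      rw [dKos, map_sum]
      refine Submodule.sum_mem _ fun i _ => ?_
      have : lof A ℕ K (q + 1) (θ i q (z i)) = T i • lof A ℕ K q (z i) := (totalOp_lof (θ i) q (z i)).symm
      rw [this]
      exact Submodule.smul_mem _ _ (ih _)
  let D : (Fin k → ⨁ q, K q) →ₗ[R] ⨁ q, K q :=
    { toFun := fun z => ∑ i, T i • z i
      map_add' := fun a b => by simp [smul_add, Finset.sum_add_distrib]
      map_smul' := fun r a => by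
        simp only [RingHom.id_apply, Pi.smul_apply, Finset.smul_sum, smul_smul, mul_comm r] }
  obtain ⟨t, ht⟩ : (LinearMap.ker D).FG := IsNoetherian.noetherian _
  let d := t.sup fun g => Finset.univ.sup fun i => ((g i).support).sup id
  refine ⟨d, fun q hq z hz => ?_⟩
  let Good : (Fin k → ⨁ q, K q) → Prop := fun f =>
    ∀ q, d ≤ q → ∃ c, bdry θ q c = fun i => component A ℕ K (q + 1) (f i)
  have hgood0 : Good 0 := fun q _ => ⟨0, by funext i; simp [bdry]⟩
  have hadd : ∀ a b, Good a → Good b → Good (a + b) := fun a b ha hb q hq => by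
    obtain ⟨c, hc₁⟩ := ha q hq
    obtain ⟨c', hc₂⟩ := hb q hq
    refine ⟨c + c', ?_⟩
    funext i
    simp only [Pi.add_apply, map_add, ← congrFun hc₁ i, ← congrFun hc₂ i, bdry]
    rw [← Finset.sum_add_distrib]
    refine Finset.sum_congr rfl fun j _ => ?_
    rw [← map_add]
    congr 1
    abel
  have hkerzero : ∀ f ∈ LinearMap.ker D, ∀ q, dKos θ q (fun i => component A ℕ K q (f i)) = 0 := by
    intro f hf q
    have h1 : component A ℕ K (q + 1) (D f) = 0 := by rw [LinearMap.mem_ker.1 hf, map_zero]
    refine Eq.trans ?_ h1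
    show ∑ i, θ i q (component A ℕ K q (f i)) = component A ℕ K (q + 1) (∑ i, T i • f i)
    rw [map_sum]
    exact Finset.sum_congr rfl fun i _ => (totalOp_component_succ (θ i) q (f i)).symm
  have hall : ∀ f ∈ LinearMap.ker D, Good f := by
    intro f hf
    rw [← ht] at hf
    suffices ∀ r : R, ∀ g ∈ (t : Set (Fin k → ⨁ q, K q)), Good (r • g) by
      induction hf using Submodule.span_induction with
      | mem g hg => simpa using this 1 g hg
      | zero => exact hgood0
      | add a b _ _ ha hb => exact hadd a b ha hb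
      | smul r a ha' hh =>
        clear hh
        induction ha' using Submodule.span_induction generalizing r with
        | mem g hg => exact this r g hg
        | zero => rw [smul_zero]; exact hgood0
        | add a b _ _ ha hb => rw [smul_add]; exact hadd _ _ (ha r) (hb r)
        | smul s a _ ha => rw [smul_smul]; exact ha (r * s)
    intro r g hg
    have hgker : g ∈ LinearMap.ker D := ht ▸ Submodule.subset_span hg
    obtain ⟨r, hr⟩ := r
    have hbase : Good g := fun q hq => ⟨0, by
      funext i
      have : q + 1 ∉ (g i).support := fun h => by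
        have h1 : q + 1 ≤ d := (Finset.le_sup (f := id) h).trans
          ((Finset.le_sup (f := fun i => ((g i).support).sup id) (Finset.mem_univ i)).trans
            (Finset.le_sup (f := fun g : Fin k → ⨁ q, K q => Finset.univ.sup fun i => ((g i).support).sup id) hg))
        omega
      rw [DFinsupp.notMem_support_iff] at this
      simp [bdry]
      exact this.symm⟩
    suffices H : ∀ r ∈ R, ∀ f ∈ LinearMap.ker D, Good f → Good (fun i => r (f i)) from H r hr g hgker hbase
    intro r hr
    induction hr using Algebra.adjoin_induction with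
    | mem x hx =>
      obtain ⟨l, rfl⟩ := hx
      intro f hf _ q hq
      refine ⟨fun i j => if j = l then component A ℕ K q (f i) else 0, ?_⟩
      rw [op_eq_bdry θ q _ (hkerzero f hf q) l]
      funext i
      exact (totalOp_component_succ (θ l) q (f i)).symm
    | algebraMap a =>
      intro f _ hfg q hq
      obtain ⟨c, hc'⟩ := hfg q hq
      refine ⟨a • c, ?_⟩
      funext i
      show bdry θ q (a • c) i = component A ℕ K (q + 1) (a • f i)
      rw [map_smul, ← congrFun hc' i]
      simp [bdry, Finset.smul_sum, smul_sub]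
    | add a b _ _ ih₁ ih₂ => exact fun f hf hfg => hadd _ _ (ih₁ f hf hfg) (ih₂ f hf hfg)
    | mul a b ha hb ih₁ ih₂ =>
      intro f hf hfg
      exact ih₁ (fun i => b (f i)) (Submodule.smul_mem _ (⟨b, hb⟩ : R) hf) (ih₂ f hf hfg)
  obtain ⟨c, hc'⟩ := hall (fun i => lof A ℕ K (q + 1) (z i)) (LinearMap.mem_ker.2 (by
    show ∑ i, T i • lof A ℕ K (q + 1) (z i) = 0
    refine (Finset.sum_congr rfl fun i _ =>
      (show T i • lof A ℕ K (q + 1) (z i) = lof A ℕ K (q + 1 + 1) (θ i (q + 1) (z i)) from
        totalOp_lof (θ i) (q + 1) (z i))).trans ?_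
    rw [← map_sum, show ∑ i, θ i (q + 1) (z i) = 0 from hz, map_zero])) q hq
  exact ⟨c, hc'.trans (funext fun i => component.lof_self A (ι := ℕ) (M := K) (q + 1) (z i))⟩

end Groth.Agent.EtModAR45
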