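import Groth.Agent.EtModAR45.Transfer
import Groth.Agent.EtModAR45.Koszul
import Groth.Agent.AR46.Noeth
import Mathlib.Algebra.Category.ModuleCat.Abelian
import Mathlib.Algebra.Homology.ShortComplex.ModuleCat
import Mathlib.CategoryTheory.Limits.Preserves.Shapes.Kernels

/-!
The layers `J^q X_q` of an adic system, generated by the bottom one with finitely many relations.
-/

set_option autoImplicit false
set_option linter.unusedSectionVars false
universe w v u

open CategoryTheory CategoryTheory.Limits Opposite ARSys Groth.Agent.AR46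

namespace Groth.Agent.EtModAR45

attribute [local instance] Abelian.hasFiniteBiproducts

variable {C : Type u} [Category.{v} C] [Abelian C] {A : Type w} [CommRing A] [Linear A C]
  {J : Ideal A} {X : PS C}

variable (X) in
/-- The layers of a system: `X_0`, then the kernels of the transition maps. -/
noncomputable def lay : ℕ → C
  | 0 => X.obj (op 0)
  | q + 1 => kernel (tr X q.le_succ)

variable (X) in
/-- The inclusions of the layers. -/
noncomputable def layι : ∀ q, lay X q ⟶ X.obj (op q)
  | 0 => 𝟙 _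
  | _ + 1 => kernel.ι _

instance layι_mono : ∀ q, Mono (layι X q)
  | 0 => inferInstanceAs (Mono (𝟙 _))
  | _ + 1 => inferInstanceAs (Mono (kernel.ι _))

theorem layι_lei (hX : IsAdic J X) : ∀ q, LEI (J ^ q) (layι X q)
  | 0 => lei_pow_zero _ _
  | q + 1 => IsAdicKer.lei hX q.le_succ (kernel.condition _)

theorem exists_layOps [IsNoetherianRing A] (hX : IsAdic J X) :
    ∃ (k : ℕ) (a : Fin k → A) (op' : Fin k → ∀ q, X.obj (op q) ⟶ X.obj (op (q + 1)))
      (θ : Fin k → ∀ q, lay X q ⟶ lay X (q + 1)),
      Submodule.span A (Set.range a) = J ∧ (∀ i q, tr X q.le_succ ≫ op' i q = a i • 𝟙 _) ∧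
      (∀ i q, θ i q ≫ layι X (q + 1) = layι X q ≫ op' i q) ∧
      ∀ i j q, θ i q ≫ θ j (q + 1) = θ j q ≫ θ i (q + 1) := by
  obtain ⟨k, a, ha⟩ := Submodule.fg_iff_exists_fin_generating_family.1 (IsNoetherian.noetherian J)
  have haJ : ∀ i, a i ∈ J := fun i => ha ▸ Submodule.subset_span ⟨i, rfl⟩
  choose op' hop using fun i => exists_theta hX (haJ i)
  have hepi : ∀ q, Epi (tr X (Nat.le_succ q)) := fun q => isStrict_of_isAdic hX _ _ _
  have hback : ∀ i q, op' i q ≫ tr X q.le_succ = a i • 𝟙 _ := fun i q => by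
    have := hepi q
    rw [← cancel_epi (tr X q.le_succ), ← Category.assoc, hop, Linear.smul_comp, Category.id_comp,
      Linear.comp_smul, Category.comp_id]
  have hz : ∀ i q, (layι X q ≫ op' i q) ≫ tr X q.le_succ = 0 := fun i q => by
    rw [Category.assoc, hback, Linear.comp_smul, Category.comp_id]
    exact eq_zero_of_lei (lei_mono_ideal (pow_succ' J q).ge (lei_smul_mul (haJ i) (layι_lei hX q))) (hX.1 q)
  refine ⟨k, a, op', fun i q => kernel.lift _ _ (hz i q), ha, hop, fun i q => kernel.lift_ι _ _ _, fun i j q => ?_⟩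
  have := layι_mono (X := X) (q + 2)
  have key : ∀ i j, op' i q ≫ op' j (q + 1) = op' j q ≫ op' i (q + 1) := fun i j => by
    have := hepi q
    have := hepi (q + 1)
    have h : ∀ i j, tr X (q + 1).le_succ ≫ tr X q.le_succ ≫ op' i q ≫ op' j (q + 1) =
        (a i * a j) • 𝟙 (X.obj (op (q + 1 + 1))) := fun i j => by
      rw [reassoc_of% hop i q, Linear.smul_comp, Category.id_comp, Linear.comp_smul, hop j (q + 1), smul_smul]
    rw [← cancel_epi (tr X q.le_succ), ← cancel_epi (tr X (q + 1).le_succ), h, h, mul_comm]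
  rw [← cancel_mono (layι X (q + 2))]
  simp only [Category.assoc]
  erw [kernel.lift_ι, kernel.lift_ι, kernel.lift_ι_assoc, kernel.lift_ι_assoc]
  rw [Category.assoc, Category.assoc, key]

theorem layShortExact (hX : IsAdic J X) (q : ℕ) :
    (ShortComplex.mk (layι X (q + 1)) (tr X q.le_succ) (kernel.condition _)).ShortExact :=
  haveI : Epi (tr X q.le_succ) := isStrict_of_isAdic hX _ _ _
  { exact := ShortComplex.exact_of_f_is_kernel _ (kernelIsKernel _)
    mono_f := inferInstance
    epi_g := inferInstance }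

variable {ι : Type} [Fintype ι]

theorem map_biproduct_total (F : C ⥤ ModuleCat.{w} A) [F.Additive] (M : ι → C) [HasBiproduct M]
    (z : F.obj (⨁ M)) :
    ∑ i, F.map (biproduct.ι M i) (F.map (biproduct.π M i) z) = z := by
  let ev : (⨁ M ⟶ ⨁ M) →+ F.obj (⨁ M) :=
    { toFun := fun f => F.map f z
      map_zero' := by rw [F.map_zero]; rfl
      map_add' := fun f g => by rw [F.map_add]; rfl }
  have h : ev (∑ i, biproduct.π M i ≫ biproduct.ι M i) = ev (𝟙 (⨁ M)) := congrArg ev biproduct.total
  rw [map_sum] at h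
  refine Eq.trans ?_ (h.trans (ConcreteCategory.congr_hom (F.map_id _) z))
  refine Finset.sum_congr rfl fun i _ => ?_
  show _ = F.map (biproduct.π M i ≫ biproduct.ι M i) z
  rw [F.map_comp]
  rfl

theorem desc_apply (F : C ⥤ ModuleCat.{w} A) [F.Additive] {M : ι → C} [HasBiproduct M] {N : C}
    (f : ∀ i, M i ⟶ N) (z : F.obj (⨁ M)) :
    F.map (biproduct.desc f) z = ∑ i, F.map (f i) (F.map (biproduct.π M i) z) := by
  conv_lhs => rw [← map_biproduct_total F M z]
  rw [map_sum]
  refine Finset.sum_congr rfl fun i _ => ?_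
  rw [← ConcreteCategory.comp_apply, ← F.map_comp, biproduct.ι_desc]

/-- The layers are generated by the bottom one; the relations come from finitely many degrees. -/
theorem exists_layers [IsNoetherianRing A] (hX : IsAdic J X) :
    ∃ (k : ℕ) (Θ : ∀ q, (⨁ fun _ : Fin k => lay X q) ⟶ lay X (q + 1))
      (δ : ∀ q, (⨁ fun _ : Fin k × Fin k => lay X q) ⟶ ⨁ fun _ : Fin k => lay X (q + 1)),
      (∀ q, δ q ≫ Θ (q + 1) = 0) ∧
      ∀ (F : C ⥤ ModuleCat.{w} A) [F.Additive] [F.Linear A] [PreservesFiniteColimits F] [PreservesFiniteLimits F],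
        (∀ q, Function.Surjective (F.map (Θ q))) ∧
        (Module.Finite A (F.obj (X.obj (op 0))) → ∃ d, ∀ q, d ≤ q → ∀ z : F.obj (⨁ fun _ : Fin k => lay X (q + 1)),
          F.map (Θ (q + 1)) z = 0 → ∃ c, F.map (δ q) c = z) := by
  obtain ⟨k, a, op', θ, ha, hop, hθ, hc⟩ := exists_layOps hX
  let δ : ∀ q, (⨁ fun _ : Fin k × Fin k => lay X q) ⟶ ⨁ fun _ : Fin k => lay X (q + 1) := fun q =>
    biproduct.desc fun p => θ p.2 q ≫ biproduct.ι (fun _ : Fin k => lay X (q + 1)) p.1 -
      θ p.1 q ≫ biproduct.ι (fun _ : Fin k => lay X (q + 1)) p.2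
  refine ⟨k, fun q => biproduct.desc fun i => θ i q, δ, fun q => ?_, fun F _ _ _ _ => ?_⟩
  · refine biproduct.hom_ext' _ _ fun p => ?_
    simp only [δ, biproduct.ι_desc_assoc, Preadditive.sub_comp, Category.assoc, biproduct.ι_desc, comp_zero,
      hc p.2 p.1 q, sub_self]
  let K : ℕ → Type w := fun q => F.obj (lay X q)
  let t : Fin k → ∀ q, K q →ₗ[A] K (q + 1) := fun i q => (F.map (θ i q)).hom
  have hgen : ∀ q (y : K (q + 1)), ∃ z, dKos t q z = y := by
    intro q y
    let Y := X ⋙ F
    have hY : IsAdic J Y := isAdic_map F hX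
    let x : F.obj (X.obj (op (q + 1))) := F.map (layι X (q + 1)) y
    have hx0 : F.map (tr X q.le_succ) x = 0 := by
      rw [← ConcreteCategory.comp_apply, ← F.map_comp,
        show layι X (q + 1) ≫ tr X q.le_succ = 0 from kernel.condition _, F.map_zero]
      rfl
    have hmem : ∀ (m : ℕ) (x : F.obj (X.obj (op (m + 1)))), F.map (tr X m.le_succ) x = 0 →
        x ∈ (J ^ (m + 1)) • (⊤ : Submodule A (F.obj (X.obj (op (m + 1))))) := by
      intro m x hx
      let N := (J ^ (m + 1)) • (⊤ : Submodule A (F.obj (X.obj (op (m + 1)))))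
      have hkill : HomKilledBy (J ^ (m + 1)) (ModuleCat.ofHom N.mkQ : Y.obj (op (m + 1)) ⟶ _) := fun b hb => by
        ext v
        exact (Submodule.Quotient.mk_eq_zero N).2 (Submodule.smul_mem_smul hb trivial : b • v ∈ N) |>.symm.symm
      obtain ⟨ψ, hψ, -⟩ := (hY.2 m (m + 1) m.le_succ).2 _ _ hkill
      exact (Submodule.Quotient.mk_eq_zero N).1 ((ConcreteCategory.congr_hom hψ x).symm.trans
        ((congrArg ψ hx).trans (map_zero _)))
    have hinj : Function.Injective (F.map (layι X (q + 1))) := (ModuleCat.mono_iff_injective _).1 inferInstance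
    suffices ∃ z, F.map (layι X (q + 1)) (dKos t q z) = x from this.imp fun z hz => hinj hz
    have hx := hmem q x hx0
    rw [pow_succ', Submodule.mul_smul] at hx
    have hP0 : ∃ z, F.map (layι X (q + 1)) (dKos t q z) = 0 := ⟨0, by simp [dKos]⟩
    have hPadd : ∀ u v, (∃ z, F.map (layι X (q + 1)) (dKos t q z) = u) →
        (∃ z, F.map (layι X (q + 1)) (dKos t q z) = v) → ∃ z, F.map (layι X (q + 1)) (dKos t q z) = u + v := by
      rintro u v ⟨z, hz⟩ ⟨z', hz'⟩
      refine ⟨z + z', ?_⟩
      rw [← hz, ← hz', ← map_add]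
      simp [dKos, Finset.sum_add_distrib]
    refine Submodule.smul_induction_on hx (fun b hb n hn => ?_) hPadd
    rw [← ha] at hb
    induction hb using Submodule.span_induction with
    | zero => rw [zero_smul]; exact hP0
    | add b c _ _ hb' hc' => rw [add_smul]; exact hPadd _ _ hb' hc'
    | smul r b _ hb' =>
      obtain ⟨z, hz⟩ := hb'
      refine ⟨r • z, ?_⟩
      rw [smul_eq_mul, mul_smul, ← hz, ← map_smul]
      simp [dKos, Finset.smul_sum]
    | mem b hb' =>
      obtain ⟨i, rfl⟩ := hb'
      have hn' : ∃ y' : K q, F.map (layι X q) y' = F.map (tr X q.le_succ) n := by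
        cases q with
        | zero => exact ⟨F.map (tr X (Nat.le_succ 0)) n, ConcreteCategory.congr_hom (F.map_id _) _⟩
        | succ m =>
          have hex : ((ShortComplex.mk (layι X (m + 1)) (tr X m.le_succ) (kernel.condition _)).map F).Exact :=
            ((layShortExact hX m).map_of_exact F).exact
          refine (ShortComplex.moduleCat_exact_iff _).1 hex (F.map (tr X (m + 1).le_succ) n) ?_
          show F.map (tr X m.le_succ) (F.map (tr X (m + 1).le_succ) n) = 0
          have hkill : ∀ c ∈ J ^ (m + 1), ∀ v : F.obj (X.obj (op m)), c • v = 0 := fun c hc v => by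
            have := ConcreteCategory.congr_hom (hY.1 m c hc) v
            exact this
          rw [← ConcreteCategory.comp_apply]
          refine Submodule.smul_induction_on hn (fun c hc v _ => ?_) (fun u v hu hv => by rw [map_add, hu, hv, add_zero])
          rw [map_smul]
          exact hkill c hc _
      obtain ⟨y', hy'⟩ := hn'
      classical
      refine ⟨Pi.single i y', ?_⟩
      have e1 : dKos t q (Pi.single i y') = F.map (θ i q) y' := by
        rw [dKos, Finset.sum_eq_single i (fun j _ hj => by rw [Pi.single_eq_of_ne hj, map_zero])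
          (fun h => absurd (Finset.mem_univ i) h), Pi.single_eq_same]
      rw [e1, ← ConcreteCategory.comp_apply, ← F.map_comp, hθ i q, F.map_comp, ConcreteCategory.comp_apply, hy',
        ← ConcreteCategory.comp_apply, ← F.map_comp, hop i q, F.map_smul, F.map_id]
      rfl

  refine ⟨fun q y => ?_, fun hfin => ?_⟩
  · obtain ⟨z, hz⟩ := hgen q y
    refine ⟨∑ i, F.map (biproduct.ι (fun _ : Fin k => lay X q) i) (z i), ?_⟩
    rw [map_sum, ← hz]
    refine Finset.sum_congr rfl fun i _ => ?_
    rw [← ConcreteCategory.comp_apply, ← F.map_comp, biproduct.ι_desc]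
  obtain ⟨d, hd⟩ := exists_bdry_of_degree (K := K) t (fun i j q x => by
      show (F.map (θ i (q + 1))) (F.map (θ j q) x) = (F.map (θ j (q + 1))) (F.map (θ i q) x)
      rw [← ConcreteCategory.comp_apply, ← ConcreteCategory.comp_apply, ← F.map_comp, ← F.map_comp, hc j i q])
    hfin hgen
  refine ⟨d, fun q hq z hz => ?_⟩
  obtain ⟨c, hc'⟩ := hd q hq (fun i => F.map (biproduct.π (fun _ : Fin k => lay X (q + 1)) i) z)
    ((desc_apply F _ z).symm.trans hz)
  refine ⟨∑ p : Fin k × Fin k, F.map (biproduct.ι (fun _ : Fin k × Fin k => lay X q) p) (c p.1 p.2), ?_⟩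
  rw [← map_biproduct_total F _ z, map_sum]
  have e : ∀ p : Fin k × Fin k, F.map (δ q) (F.map (biproduct.ι (fun _ : Fin k × Fin k => lay X q) p) (c p.1 p.2)) =
      F.map (biproduct.ι (fun _ : Fin k => lay X (q + 1)) p.1) (t p.2 q (c p.1 p.2)) -
      F.map (biproduct.ι (fun _ : Fin k => lay X (q + 1)) p.2) (t p.1 q (c p.1 p.2)) := fun p => by
    rw [← ConcreteCategory.comp_apply, ← F.map_comp]
    simp only [δ, biproduct.ι_desc, F.map_sub, F.map_comp]
    rfl
  simp only [e, Fintype.sum_prod_type, Finset.sum_sub_distrib]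
  rw [Finset.sum_comm (f := fun x y => F.map (biproduct.ι (fun _ : Fin k => lay X (q + 1)) y) (t x q (c x y))),
    ← Finset.sum_sub_distrib]
  refine Finset.sum_congr rfl fun i _ => ?_
  rw [← congrFun hc' i, bdry, map_sum, ← Finset.sum_sub_distrib]
  exact Finset.sum_congr rfl fun j _ => by rw [map_sub, map_sub]

end Groth.Agent.EtModAR45
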