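import Groth.Agent.EtModAR45.Strata
import Groth.Agent.EtModAR45.EtDetect
import Groth.Agent.AR46.Kernels

/-!
Connected pieces for two adic systems; kernels and cokernels are adic up to translation.
-/

set_option autoImplicit false
set_option linter.unusedSectionVars false
set_option backward.isDefEq.respectTransparency.types false
universe u

open CategoryTheory CategoryTheory.Limits AlgebraicGeometry Opposite ARSys Topology
open Groth.Agent.LocConst45.Mod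

namespace Groth.Agent.EtModAR45

variable {Λ : Type (u + 1)} [CommRing Λ] [IsNoetherianRing Λ] {I : Ideal Λ} {X : Scheme.{u}}

/-- Finitely many irreducible Noetherian schemes cover `C` and make both systems locally constant. -/
def Covered (F G : PS (EtModW.Mod Λ X)) (C : Set X) : Prop :=
  ∃ (ι : Type) (_ : Finite ι) (S : ι → Scheme.{u}) (g : ∀ i, S i ⟶ X),
    (∀ i, IsNoetherian (S i) ∧ IrreducibleSpace (S i)) ∧ C ⊆ (⋃ i, Set.range (g i)) ∧ (∀ i, IsImmersion (g i)) ∧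
    ∀ (i : ι) (n : ℕ), EtModW.IsFTLocConst Λ ((EtModW.pull Λ (g i)).obj (F.obj (op n))) ∧
      EtModW.IsFTLocConst Λ ((EtModW.pull Λ (g i)).obj (G.obj (op n)))

theorem covered_univ [IsNoetherian X] {F G : PS (EtModW.Mod Λ X)} (hF : IsAdic I F) (hG : IsAdic I G)
    (hFc : ∀ n : ℕ, EtModW.IsConstructible Λ (F.obj (op n)))
    (hGc : ∀ n : ℕ, EtModW.IsConstructible Λ (G.obj (op n))) : Covered F G Set.univ := by
  refine ConstrTop58.closed_induction ⟨Empty, inferInstance, fun i => i.elim, fun i => i.elim,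
    fun i => i.elim, Set.empty_subset _, fun i => i.elim, fun i => i.elim⟩
    (fun C D _ _ hC hD => ?_) (fun Y hY hYi ih => ?_) _ isClosed_univ
  · obtain ⟨ι, _, S, g, h1, h2, h3, h4⟩ := hC
    obtain ⟨κ, _, S', g', h1', h2', h3', h4'⟩ := hD
    refine ⟨ι ⊕ κ, inferInstance, Sum.elim S S', fun x => match x with | Sum.inl i => g i | Sum.inr i => g' i,
      fun x => match x with | Sum.inl i => h1 i | Sum.inr i => h1' i, ?_,
      fun x => match x with | Sum.inl i => h3 i | Sum.inr i => h3' i,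
      fun x n => match x with | Sum.inl i => h4 i n | Sum.inr i => h4' i n⟩
    rintro x (hx | hx)
    · obtain ⟨i, hi⟩ := Set.mem_iUnion.1 (h2 hx)
      exact Set.mem_iUnion.2 ⟨Sum.inl i, hi⟩
    · obtain ⟨i, hi⟩ := Set.mem_iUnion.1 (h2' hx)
      exact Set.mem_iUnion.2 ⟨Sum.inr i, hi⟩
  obtain ⟨T, g, hg, hT, hgr⟩ := Cons51.exists_reduced_immersion hY.isLocallyClosed
  have : IrreducibleSpace T := by
    have hirr : IsIrreducible (Set.univ : Set T) := by
      refine ⟨?_, ?_⟩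
      · obtain ⟨y, hy⟩ := hYi.nonempty
        obtain ⟨t, -⟩ := hgr.ge hy
        exact ⟨t, trivial⟩
      · intro u v hu hv hu' hv'
        obtain ⟨O₁, hO₁, rfl⟩ := g.isEmbedding.isInducing.isOpen_iff.1 hu
        obtain ⟨O₂, hO₂, rfl⟩ := g.isEmbedding.isInducing.isOpen_iff.1 hv
        obtain ⟨a, -, ha⟩ := hu'
        obtain ⟨b, -, hb⟩ := hv'
        obtain ⟨y, hy, hy₁, hy₂⟩ := hYi.isPreirreducible O₁ O₂ hO₁ hO₂
          ⟨g a, hgr.le ⟨a, rfl⟩, ha⟩ ⟨g b, hgr.le ⟨b, rfl⟩, hb⟩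
        obtain ⟨t, rfl⟩ := hgr.ge hy
        exact ⟨t, trivial, hy₁, hy₂⟩
    exact irreducibleSpace_def _ |>.2 hirr
  obtain ⟨W₁, hW₁, hW₁f⟩ := exists_open_flc hF hFc g
  obtain ⟨W₂, hW₂, hW₂f⟩ := exists_open_flc hG hGc g
  let W : T.Opens := W₁ ⊓ W₂
  have hW : genericPoint T ∈ W := ⟨hW₁, hW₂⟩
  have restr : ∀ {M : EtModW.Mod Λ X} {V : T.Opens} (h : W ≤ V),
      EtModW.IsFTLocConst Λ ((EtModW.pull Λ (V.ι ≫ g)).obj M) →
      EtModW.IsFTLocConst Λ ((EtModW.pull Λ (W.ι ≫ g)).obj M) := fun {M V} h hV =>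
    ModCons93.ftlc_of_iso (((EtSix.pullModComp Λ (T.homOfLE h) (V.ι ≫ g)).app M).symm ≪≫
      (EtSix.pullModCongr Λ (by rw [← Category.assoc, T.homOfLE_ι])).app M) (isFTLocConst_pull _ hV)
  have hirr : IrreducibleSpace W.toScheme :=
    Subtype.irreducibleSpace ⟨⟨_, hW⟩,
      (IrreducibleSpace.isIrreducible_univ T).isPreirreducible.open_subset W.2 (Set.subset_univ _)⟩
  have : IsImmersion (W.ι ≫ g) := inferInstance
  have hnoe : IsNoetherian W.toScheme :=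
    { toIsLocallyNoetherian := LocallyOfFiniteType.isLocallyNoetherian (W.ι ≫ g)
      toCompactSpace := by
        have : TopologicalSpace.NoetherianSpace W.toScheme :=
          (W.ι ≫ g).isEmbedding.isInducing.noetherianSpace
        infer_instance }
  obtain ⟨O, hO, hOW⟩ := g.isEmbedding.isInducing.isOpen_iff.1 W.2
  have hlt : Y \ O ⊂ Y := ⟨Set.sdiff_subset, fun h => (h (hgr ▸ ⟨_, rfl⟩ : g (genericPoint T) ∈ Y)).2
    (show genericPoint T ∈ g ⁻¹' O by rw [hOW]; exact hW)⟩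
  obtain ⟨ι, _, S, s, h1, h2, h3, h4⟩ := ih _ (hY.sdiff hO) hlt
  refine ⟨Option ι, inferInstance, fun o => o.elim W.toScheme S,
    fun o => match o with | none => W.ι ≫ g | some i => s i,
    fun o => match o with | none => ⟨hnoe, hirr⟩ | some i => h1 i, ?_,
    fun o => match o with | none => ‹IsImmersion (W.ι ≫ g)› | some i => h3 i,
    fun o n => match o with
      | none => ⟨restr inf_le_left (hW₁f n), restr inf_le_right (hW₂f n)⟩
      | some i => h4 i n⟩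
  intro y hy
  by_cases hyO : y ∈ O
  · obtain ⟨t, rfl⟩ := hgr.ge hy
    refine Set.mem_iUnion.2 ⟨none, ⟨t, ?_⟩, ?_⟩
    · show t ∈ (W : Set T)
      rw [show (W : Set T) = g ⁻¹' O from hOW.symm]
      exact hyO
    · exact Scheme.Hom.comp_apply _ _ _
  · obtain ⟨i, hi⟩ := Set.mem_iUnion.1 (h2 ⟨hy, hyO⟩)
    exact Set.mem_iUnion.2 ⟨some i, hi⟩

theorem isNoetherianObject_of_finite (M : ModuleCat.{u + 1} Λ) [Module.Finite Λ M] : IsNoetherianObject M := by
  have : _root_.IsNoetherian Λ M := isNoetherian_of_isNoetherianRing_of_finite Λ M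
  have : WellFoundedGT (Submodule Λ M) := inferInstance
  have : WellFoundedGT (Subobject M) :=
    (ModuleCat.subobjectModule M).toOrderEmbedding.wellFoundedGT
  exact ObjectProperty.is_of_prop _ ⟨this.wf⟩

/-- Kernels and cokernels of maps of adic constructible systems are adic up to translation. -/
theorem arAdic_kernel_cokernel [IsNoetherian X] {F G : PS (EtModW.Mod Λ X)} (hF : IsAdic I F) (hG : IsAdic I G)
    (hFc : ∀ n : ℕ, EtModW.IsConstructible Λ (F.obj (op n)))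
    (hGc : ∀ n : ℕ, EtModW.IsConstructible Λ (G.obj (op n))) (w : F ⟶ G) :
    (TermKilled I (kernel w) ∧ ∃ (Y : PS (EtModW.Mod Λ X)) (v : Y ⟶ kernel w),
        IsAdic I Y ∧ (∀ n : ℕ, EtModW.IsConstructible Λ (Y.obj (op n))) ∧ IsARIso v) ∧
      (TermKilled I (cokernel w) ∧ ∃ (Y : PS (EtModW.Mod Λ X)) (v : Y ⟶ cokernel w),
        IsAdic I Y ∧ (∀ n : ℕ, EtModW.IsConstructible Λ (Y.obj (op n))) ∧ IsARIso v) := by
  let K := kernel w
  let Q := cokernel w
  let eK : ∀ n, K.obj n ≅ kernel (w.app n) := fun n =>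
    PreservesKernel.iso ((evaluation ℕᵒᵖ (EtModW.Mod Λ X)).obj n) w
  let eQ : ∀ n, Q.obj n ≅ cokernel (w.app n) := fun n =>
    PreservesCokernel.iso ((evaluation ℕᵒᵖ (EtModW.Mod Λ X)).obj n) w
  have hKk : TermKilled I K := AR46.termKilled_of_mono (kernel.ι w) hF.1
  have hQk : TermKilled I Q := AR46.termKilled_of_epi (cokernel.π w) hG.1
  have hKc : ∀ n : ℕ, EtModW.IsConstructible Λ (K.obj (op n)) := fun n =>
    ModCons93.isConstructible_of_iso (eK _).symm (Mod48.EtCons.isConstructible_kernel_cokernel _ (hFc n) (hGc n)).1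
  have hQc : ∀ n : ℕ, EtModW.IsConstructible Λ (Q.obj (op n)) := fun n =>
    ModCons93.isConstructible_of_iso (eQ _).symm (Mod48.EtCons.isConstructible_kernel_cokernel _ (hFc n) (hGc n)).2
  have hpt : ∀ {Ω : Type u} [Field Ω] [IsSepClosed Ω] (x : Spec (CommRingCat.of Ω) ⟶ X),
      ∃ σ, BddAt I σ K x ∧ BddAt I σ Q x := by
    intro Ω _ _ x
    let Φ := EtModW.stalk Λ x
    have hnoe : ∀ {H : PS (EtModW.Mod Λ X)}, IsAdic I H → (∀ n : ℕ, EtModW.IsConstructible Λ (H.obj (op n))) →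
        IsARAdicNoeth I (H ⋙ Φ) := fun {H} hH hHc =>
      ⟨⟨termKilled_map Φ hH.1, H ⋙ Φ, 𝟙 _, isAdic_map Φ hH, AR46.isARIso_of_isIso _⟩, fun n =>
        @isNoetherianObject_of_finite _ _ _ ((EtModW.stalk Λ x).obj (H.obj (op n))) (finite_stalk (hHc n) x)⟩
    obtain ⟨⟨⟨-, B, b, hB, hb⟩, -⟩, ⟨⟨-, B', b', hB', hb'⟩, -⟩⟩ :=
      AR46.kernel_cokernel_of_arAdicNoeth (Functor.whiskerRight w Φ) (hnoe hF hFc) (hnoe hG hGc)
    let W := (Functor.whiskeringRight ℕᵒᵖ (EtModW.Mod Λ X) (ModuleCat.{u + 1} Λ)).obj Φ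
    obtain ⟨σ, hσ⟩ := exists_bdd hB hb
    obtain ⟨σ', hσ'⟩ := exists_bdd hB' hb'
    exact ⟨max σ σ', (hσ.mono (le_max_left _ _)).of_iso (PreservesKernel.iso W w).symm,
      (hσ'.mono (le_max_right _ _)).of_iso (PreservesCokernel.iso W w).symm⟩
  obtain ⟨ι, _, S, g, hS, hcov, hg, hflc⟩ := covered_univ hF hG hFc hGc
  have hpiece : ∀ i, ∃ σ, ∀ (Ω : Type u) [Field Ω] [IsSepClosed Ω] (ζ : Spec (CommRingCat.of Ω) ⟶ S i),
      BddAt I σ K (ζ ≫ g i) ∧ BddAt I σ Q (ζ ≫ g i) := by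
    intro i
    have := (hS i).1
    have := (hS i).2
    have := Six47.preservesFiniteLimits_pullMod Λ (g i)
    have := Six47.preservesFiniteColimits_pullMod Λ (g i)
    let P := EtModW.pull Λ (g i)
    have hK : ∀ j : ℕᵒᵖ, EtModW.IsFTLocConst Λ ((K ⋙ P).obj j) := fun j =>
      ModCons93.ftlc_of_iso ((P.mapIso (eK j)) ≪≫ PreservesKernel.iso P _).symm
        ((ft_weakSerre Λ (S i)).1 _ _ _ (hflc i j.unop).1 (hflc i j.unop).2).1
    have hQ : ∀ j : ℕᵒᵖ, EtModW.IsFTLocConst Λ ((Q ⋙ P).obj j) := fun j =>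
      ModCons93.ftlc_of_iso ((P.mapIso (eQ j)) ≪≫ PreservesCokernel.iso P _).symm
        ((ft_weakSerre Λ (S i)).1 _ _ _ (hflc i j.unop).1 (hflc i j.unop).2).2
    obtain ⟨Ω₀, _, _, ζ₀, -⟩ := exists_point (genericPoint (S i))
    obtain ⟨σ, h₁, h₂⟩ := hpt (ζ₀ ≫ g i)
    refine ⟨σ, fun Ω _ _ ζ => ?_⟩
    have tr : ∀ (H : PS (EtModW.Mod Λ X)), (∀ j : ℕᵒᵖ, EtModW.IsFTLocConst Λ ((H ⋙ P).obj j)) →
        BddAt I σ H (ζ₀ ≫ g i) → BddAt I σ H (ζ ≫ g i) := fun H hH hb => by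
      obtain ⟨e⟩ := nonempty_iso_stalk (H ⋙ P) hH ζ₀ ζ
      exact Bdd.of_iso hb (Functor.isoWhiskerLeft H (stalkPullModIso (g i) ζ₀) ≪≫
        (Functor.associator H P _).symm ≪≫ e ≪≫ Functor.associator H P _ ≪≫
        Functor.isoWhiskerLeft H (stalkPullModIso (g i) ζ).symm)
    exact ⟨tr K hK h₁, tr Q hQ h₂⟩
  choose σ hσ using hpiece
  obtain ⟨M, hM⟩ := (Set.finite_range σ).bddAbove
  have hall : ∀ (Ω : Type u) [Field Ω] [IsSepClosed Ω] (η : Spec (CommRingCat.of Ω) ⟶ X),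
      BddAt I M K η ∧ BddAt I M Q η := by
    intro Ω _ _ η
    obtain ⟨i, hi⟩ := Set.mem_iUnion.1 (hcov (Set.mem_univ (η default)))
    have := hg i
    obtain ⟨ζ, rfl⟩ := Cons51.exists_lift η (g i) (by
      rintro _ ⟨a, rfl⟩
      rw [Unr55.EtSh.default_eq a]
      exact hi)
    exact ⟨(hσ i Ω ζ).1.mono (hM ⟨i, rfl⟩), (hσ i Ω ζ).2.mono (hM ⟨i, rfl⟩)⟩
  exact ⟨arAdic_of_stalks hKk hKc fun Ω _ _ η => (hall Ω η).1,
    arAdic_of_stalks hQk hQc fun Ω _ _ η => (hall Ω η).2⟩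

end Groth.Agent.EtModAR45
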