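import Groth.Agent.EtModAR45.Stalks
import Groth.Agent.Unr55.Et.EtEquiv
import Groth.Agent.Mod48.EtConsGen

/-!
Local constancy is detected on thickenings and on open covers.
-/

set_option autoImplicit false
set_option backward.isDefEq.respectTransparency.types false
universe u

open CategoryTheory CategoryTheory.Limits AlgebraicGeometry Opposite
open Groth.Agent.Unr55.EtSh (Pt hom point_over ptUp ptDown ptUp_ptDown ptDown_ptUp ptUp_map)
open Groth.Agent.LocConst45.Mod

namespace Groth.Agent.EtModAR45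

variable {Λ : Type (u + 1)} [CommRing Λ] {S T X : Scheme.{u}}

section

variable (i : T ⟶ S) [IsClosedImmersion i] [Surjective i]

/-- Direct image along a thickening preserves trivialisations. -/
theorem isTriv_push (G : EtModW.Mod Λ T) (V : S.Etale) {M : Type (u + 1)} [AddCommGroup M] [Module Λ M]
    {σ : M →ₗ[Λ] EtModW.sect Λ G ((EtCoh.bc i).obj V)} (h : IsTriv G ((EtCoh.bc i).obj V) σ) :
    IsTriv ((EtModW.push Λ i).obj G) V σ := by
  have := Unr55.EtGlue.bc_isEquivalence_thickening i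
  have hpt : ∀ (W : S.Etale) (x : W.left), ∃ y : ((EtCoh.bc i).obj W).left, pullback.fst W.hom i y = x := fun W x =>
    (inferInstance : Surjective (pullback.fst W.hom i)).surj x
  refine ⟨fun W a m ⟨x⟩ hm => ?_, fun W a s x => ?_⟩
  · obtain ⟨y, -⟩ := hpt W x
    exact h.inj _ ((EtCoh.bc i).map a) m ⟨y⟩ hm
  · obtain ⟨y, hy⟩ := hpt W x
    obtain ⟨V', g, v, m, hv, hm⟩ := h.surj _ ((EtCoh.bc i).map a) s y
    let e := (EtCoh.bc i).objObjPreimageIso V'
    let g₀ := (EtCoh.bc i).preimage (e.hom ≫ g)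
    have hg₀ : (EtCoh.bc i).map g₀ = e.hom ≫ g := (EtCoh.bc i).map_preimage _
    let v' : ((EtCoh.bc i).obj ((EtCoh.bc i).objPreimage V')).left := e.inv.left v
    refine ⟨_, g₀, pullback.fst _ i v', m, ?_, ?_⟩
    · have h1 : ((EtCoh.bc i).map g₀).left v' = y := by
        rw [hg₀]
        show g.left (e.hom.left (e.inv.left v)) = y
        rw [show e.hom.left (e.inv.left v) = v from congrArg (fun k : V' ⟶ V' => k.left v) e.inv_hom_id]
        exact hv
      rw [← hy, ← h1]
      exact (congrArg (fun k => k v') (EtCoh.isPullback_bc_map i g₀).w).symm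
    · show G.obj.map ((EtCoh.bc i).map g₀).op s = G.obj.map ((EtCoh.bc i).map (g₀ ≫ a)).op (σ m)
      rw [Functor.map_comp, hg₀, map_comp' G e.hom g, hm, ← map_comp', Category.assoc]

theorem isFTLocConst_push {G : EtModW.Mod Λ T} (hG : EtModW.IsFTLocConst Λ G) :
    EtModW.IsFTLocConst Λ ((EtModW.push Λ i).obj G) := by
  have := Unr55.EtGlue.bc_isEquivalence_thickening i
  refine (ftLocConst_iff _).2 fun x => ?_
  obtain ⟨t, rfl⟩ := (inferInstance : Surjective i).surj x
  obtain ⟨U, u₀, M, _, _, _, σ, hu, hσ⟩ := (ftLocConst_iff G).1 hG t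
  let e := (EtCoh.bc i).objObjPreimageIso U
  refine ⟨(EtCoh.bc i).objPreimage U, pullback.fst _ i (e.inv.left u₀), M, inferInstance, inferInstance, inferInstance,
    (G.obj.map e.hom.op).hom.comp σ, ?_, isTriv_push i G _ (hσ.restrict e.hom)⟩
  show ((EtCoh.bc i).objPreimage U).hom (pullback.fst _ i (e.inv.left u₀)) = i t
  rw [← Scheme.Hom.comp_apply, pullback.condition, Scheme.Hom.comp_apply, ← hu]
  exact congrArg i (hom_left_comp e.inv u₀)

theorem pushStalkMap_injective (G : EtModW.Mod Λ T) {Ω : Type u} [Field Ω] [IsSepClosed Ω]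
    (η : Spec (CommRingCat.of Ω) ⟶ T) : Function.Injective (pushStalkMap i η G) := by
  have := Unr55.EtGlue.bc_isEquivalence_thickening i
  refine (injective_iff_map_eq_zero (pushStalkMap i η G).hom).2 fun a ha => ?_
  obtain ⟨V, s, σ, rfl⟩ := exists_germ_eq (η ≫ i) ((EtModW.push Λ i).obj G) a
  obtain ⟨W, g, t, ht, hW⟩ := (germ_eq_zero_iff η G _ _).1 ((pushStalkMap_germ i η G s σ).symm.trans ha)
  let e := (EtCoh.bc i).objObjPreimageIso W
  let g₀ := (EtCoh.bc i).preimage (e.hom ≫ g)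
  have hg₀ : (EtCoh.bc i).map g₀ = e.hom ≫ g := (EtCoh.bc i).map_preimage _
  refine (germ_eq_zero_iff (η ≫ i) _ s σ).2
    ⟨_, g₀, ptDown i η ((Scheme.pointSmallEtale η).fiber.map e.inv t), ?_, ?_⟩
  · rw [← Unr55.EtSh.ptDown_map, hg₀, ← ConcreteCategory.comp_apply, ← Functor.map_comp,
      Iso.inv_hom_id_assoc, ht, ptDown_ptUp]
  · show G.obj.map ((EtCoh.bc i).map g₀).op σ = 0
    rw [hg₀, map_comp' G e.hom g, hW, map_zero]

theorem isIso_unit_thickening (F : EtModW.Mod Λ S) : IsIso ((modAdj Λ i).unit.app F) := by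
  refine EtModTens45.isIso_of_stalks _ fun K _ _ ξ => ?_
  obtain ⟨η, rfl⟩ := Cons51.exists_lift ξ i (by
    rw [(inferInstance : Surjective i).surj.range_eq]; exact Set.subset_univ _)
  have hinj := pushStalkMap_injective i ((EtModW.pull Λ i).obj F) η
  have hth := theta_bijective i η F
  exact ⟨fun a b h => hth.1 (congrArg (pushStalkMap i η ((EtModW.pull Λ i).obj F)) h),
    fun b => (hth.2 (pushStalkMap i η ((EtModW.pull Λ i).obj F) b)).imp fun a ha => hinj ha⟩

theorem isFTLocConst_of_pull_thickening {F : EtModW.Mod Λ S} (h : EtModW.IsFTLocConst Λ ((EtModW.pull Λ i).obj F)) :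
    EtModW.IsFTLocConst Λ F :=
  haveI := isIso_unit_thickening i F
  ModCons93.ftlc_of_iso (asIso ((modAdj Λ i).unit.app F)).symm (isFTLocConst_push i h)

end

/-- Local constancy is local for open immersions. -/
theorem isFTLocConst_of_open_cover {F : EtModW.Mod Λ X}
    (h : ∀ x : X, ∃ (U : Scheme.{u}) (j : U ⟶ X) (_ : IsOpenImmersion j), x ∈ Set.range j ∧
      EtModW.IsFTLocConst Λ ((EtModW.pull Λ j).obj F)) :
    EtModW.IsFTLocConst Λ F := by
  refine (ftLocConst_iff _).2 fun x => ?_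
  obtain ⟨U, j, _, ⟨y, rfl⟩, hU⟩ := h x
  have := EtCore45.jCont j
  obtain ⟨W, w, M, _, _, _, σ, hw, hσ⟩ :=
    (ftLocConst_iff _).1 (ModCons93.ftlc_of_iso ((Mod48.EtCons.pullRestrModIso Λ j).app F) hU) y
  exact ⟨(EtShriek.compEtale j).obj W, w, M, inferInstance, inferInstance, inferInstance, σ,
    congrArg j hw, Mod48.EtCons.isTriv_of_restr j hσ⟩

end Groth.Agent.EtModAR45
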