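import Groth.Agent.EtModAR45.EtDetect

/-!
Locally constant systems and null systems, read on stalks.
-/

set_option autoImplicit false
set_option backward.isDefEq.respectTransparency.types false
universe u

open CategoryTheory CategoryTheory.Limits AlgebraicGeometry Opposite ARSys
open Groth.Agent.LocConst45.Mod

namespace Groth.Agent.EtModAR45

variable {Λ : Type (u + 1)} [CommRing Λ]

theorem isZero_of_strict_of_limit_zero {Y : PS (ModuleCat.{u + 1} Λ)} (hY : IsStrict Y) (h : IsZero (limit Y)) (n : ℕ) :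
    IsZero (Y.obj (op n)) := by
  refine @ModuleCat.isZero_of_subsingleton _ _ _ (subsingleton_of_forall_eq 0 fun x => ?_)
  have hs : ∀ k (y : Y.obj (op (n + k))), ∃ y' : Y.obj (op (n + (k + 1))), tr Y (show n + k ≤ n + (k + 1) by omega) y' = y :=
    fun k y => (ModuleCat.epi_iff_surjective _).1 (hY _ _ _) y
  let z : ∀ k, Y.obj (op (n + k)) := fun k => k.rec x fun k y => (hs k y).choose
  have hz : ∀ k l (hkl : n + k ≤ n + l), tr Y hkl (z l) = z k := by
    intro k l hkl
    obtain ⟨d, rfl⟩ : ∃ d, l = k + d := ⟨l - k, by omega⟩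
    induction d with
    | zero => exact ConcreteCategory.congr_hom (Y.map_id _) _
    | succ d ih =>
      have e : tr Y (show n + (k + d) ≤ n + (k + d + 1) by omega) (z (k + d + 1)) = z (k + d) :=
        (hs (k + d) (z (k + d))).choose_spec
      have h2 : tr Y (show n + k ≤ n + (k + (d + 1)) by omega) =
          tr Y (show n + (k + d) ≤ n + (k + d + 1) by omega) ≫ tr Y (show n + k ≤ n + (k + d) by omega) :=
        (Groth.Agent.AR46.tr_tr Y _ _).symm
      rw [h2, ConcreteCategory.comp_apply]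
      exact (congrArg _ e).trans (ih (by omega))
  let c : Cone Y :=
    { pt := ModuleCat.of Λ Λ
      π :=
        { app := fun m => ModuleCat.ofHom (LinearMap.toSpanSingleton Λ (Y.obj m)
            (tr Y (Nat.le_add_left m.unop n) (z m.unop)))
          naturality := fun {a b} f => by
            have key : Y.map f (tr Y (Nat.le_add_left a.unop n) (z a.unop)) = tr Y (Nat.le_add_left b.unop n) (z b.unop) := by
              rw [← hz b.unop a.unop (by have := f.unop.le; omega)]
              rw [← ConcreteCategory.comp_apply, ← ConcreteCategory.comp_apply, ← Y.map_comp, ← Y.map_comp]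
              rfl
            ext
            show (1 : Λ) • tr Y (Nat.le_add_left b.unop n) (z b.unop) =
              Y.map f ((1 : Λ) • tr Y (Nat.le_add_left a.unop n) (z a.unop))
            rw [one_smul, one_smul, key] } }
  have hc : limit.lift Y c = 0 := h.eq_of_tgt _ _
  have h0 := limit.lift_π c (op n)
  rw [hc, zero_comp] at h0
  have h1 : (1 : Λ) • tr Y (Nat.le_add_left n n) (z n) = 0 := (ConcreteCategory.congr_hom h0 (1 : Λ)).symm
  rw [one_smul] at h1
  have h2 := hz 0 n (by omega)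
  exact h2.symm.trans h1

variable [IsNoetherianRing Λ] {I : Ideal Λ} {X : Scheme.{u}} {F : PS (EtModW.Mod Λ X)}

theorem arAdic_iff_stalk [IsNoetherian X] [ConnectedSpace X]
    (hc : ∀ n : ℕ, EtModW.IsConstructible Λ (F.obj (op n)))
    (hl : ∀ n : ℕ, EtModW.IsFTLocConst Λ (F.obj (op n))) (hk : TermKilled I F) :
    (TermKilled I F ∧ ∃ (Y : PS (EtModW.Mod Λ X)) (v : Y ⟶ F),
      IsAdic I Y ∧ (∀ n : ℕ, EtModW.IsConstructible Λ (Y.obj (op n))) ∧ IsARIso v) ↔
      ∃ (Ω : Type u) (_ : Field Ω) (_ : IsSepClosed Ω) (s : Spec (CommRingCat.of Ω) ⟶ X),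
        (TermKilled I (F ⋙ EtModW.stalk Λ s) ∧ ∃ (Y : PS (ModuleCat.{u + 1} Λ)) (v : Y ⟶ F ⋙ EtModW.stalk Λ s),
          IsAdic I Y ∧ (∀ n : ℕ, Module.Finite Λ (Y.obj (op n))) ∧ IsARIso v) := by
  constructor
  · intro h
    obtain ⟨x⟩ := (inferInstance : Nonempty X)
    obtain ⟨Ω, i₁, i₂, s, -⟩ := exists_point x
    exact ⟨Ω, i₁, i₂, s, arAdic_map (EtModW.stalk Λ s) (P := EtModW.IsConstructible Λ)
      (Q := fun M : ModuleCat.{u + 1} Λ => Module.Finite Λ M) (fun M hM => finite_stalk hM s) h⟩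
  · rintro ⟨Ω, _, _, s, -, Y, v, hY, -, hv⟩
    obtain ⟨σ, hσ⟩ := exists_bdd hY hv
    refine arAdic_of_stalks hk hc (σ := σ) fun K _ _ η => ?_
    obtain ⟨e⟩ := nonempty_iso_stalk F (fun j => hl j.unop) s η
    exact hσ.of_iso e

theorem isARNull_iff_limit [IsNoetherian X]
    (hF : TermKilled I F ∧ ∃ (Y : PS (EtModW.Mod Λ X)) (v : Y ⟶ F),
      IsAdic I Y ∧ (∀ n : ℕ, EtModW.IsConstructible Λ (Y.obj (op n))) ∧ IsARIso v) :
    IsARNull F ↔ ∀ (Ω : Type u) [Field Ω] [IsSepClosed Ω] (x : Spec (CommRingCat.of Ω) ⟶ X),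
      IsZero (limit (F ⋙ EtModW.stalk Λ x)) := by
  constructor
  · intro h Ω _ _ x
    obtain ⟨r, hr⟩ := isARNull_map (EtModW.stalk Λ x) h
    rw [IsZero.iff_id_eq_zero]
    refine limit.hom_ext fun j => ?_
    obtain ⟨n⟩ := j
    rw [zero_comp, Category.id_comp, ← limit.w (F ⋙ EtModW.stalk Λ x) (homOfLE (Nat.le_add_right n r)).op]
    exact (congrArg (limit.π (F ⋙ EtModW.stalk Λ x) _ ≫ ·) (hr n)).trans comp_zero
  · intro h
    obtain ⟨-, Y, v, hY, -, hv⟩ := hF
    obtain ⟨s, w, hw⟩ := (Groth.Agent.AR46.isARIso_iff_exists_shiftInverse v).1 hv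
    have hzero : ∀ n : ℕ, 𝟙 (Y.obj (op n)) = 0 := by
      intro n
      refine eq_zero_of_stalks _ fun K _ _ η => ?_
      have hYs : IsStrict (Y ⋙ EtModW.stalk Λ η) :=
        Groth.Agent.AR46.isStrict_of_isAdic (isAdic_map (EtModW.stalk Λ η) hY)
      have hl : IsZero (limit (Y ⋙ EtModW.stalk Λ η)) := by
        rw [IsZero.iff_id_eq_zero]
        refine limit.hom_ext fun j => ?_
        obtain ⟨m⟩ := j
        rw [zero_comp, Category.id_comp, ← limit.w (Y ⋙ EtModW.stalk Λ η) (homOfLE (Nat.le_add_right m s)).op]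
        have e : (Y ⋙ EtModW.stalk Λ η).map (homOfLE (Nat.le_add_right m s)).op =
            (Functor.whiskerRight v (EtModW.stalk Λ η)).app (op (m + s)) ≫ (EtModW.stalk Λ η).map (w m) :=
          ((congrArg (EtModW.stalk Λ η).map (hw.comp_inv m)).symm.trans ((EtModW.stalk Λ η).map_comp _ _))
        rw [e, ← Category.assoc, ← limMap_π (Functor.whiskerRight v (EtModW.stalk Λ η)) (op (m + s))]
        rw [show limMap (Functor.whiskerRight v (EtModW.stalk Λ η)) = 0 from (h K η).eq_of_tgt _ _, zero_comp,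
          zero_comp]
      rw [(EtModW.stalk Λ η).map_id]
      exact (isZero_of_strict_of_limit_zero hYs hl n).eq_of_src _ _
    refine ⟨s, fun n => ?_⟩
    show Groth.Agent.AR46.sm F s n = 0
    rw [← hw.inv_comp n, ← Category.comp_id (w n), hzero n, comp_zero, zero_comp]

end Groth.Agent.EtModAR45
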