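import Groth.Agent.EtModTens45.Basic
import Groth.Agent.Six47.PullExact
import Mathlib.CategoryTheory.Adjunction.Additive
import Mathlib.CategoryTheory.Linear.LinearFunctor
import Mathlib.Algebra.Category.ModuleCat.AB

/-!
Stalks of sheaves of modules: linearity, exactness, faithfulness, finiteness.
-/

set_option autoImplicit false
set_option backward.isDefEq.respectTransparency.types false
universe u

open CategoryTheory CategoryTheory.Limits AlgebraicGeometry Opposite
open Groth.Agent.Unr55.EtSh (Pt hom point_over)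
open Groth.Agent.LocConst45.Mod

namespace Groth.Agent.EtModAR45

variable {Λ : Type (u + 1)} [CommRing Λ] {X Y : Scheme.{u}}

instance push_linear (f : X ⟶ Y) : (EtModW.push Λ f).Linear Λ where

instance pull_additive (f : X ⟶ Y) : (EtModW.pull Λ f).Additive := (modAdj Λ f).left_adjoint_additive

instance pull_linear (f : X ⟶ Y) : (EtModW.pull Λ f).Linear Λ where
  map_smul φ a := ((modAdj Λ f).homEquiv _ _).injective (by
    rw [Adjunction.homEquiv_unit, Adjunction.homEquiv_unit, Adjunction.unit_naturality,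
      Functor.map_smul (EtModW.push Λ f), Linear.comp_smul, Adjunction.unit_naturality, Linear.smul_comp])

section

variable {Ω : Type u} [Field Ω] [IsSepClosed Ω] (ξ : Spec (CommRingCat.of Ω) ⟶ X)

theorem stalk_hom_ext {F : EtModW.Mod Λ X} {M : ModuleCat.{u + 1} Λ}
    {a b : (EtModW.stalk Λ ξ).obj F ⟶ M}
    (h : ∀ (U : X.Etale) (t : Pt ξ U) (σ : EtModW.sect Λ F U), a (germ ξ F t σ) = b (germ ξ F t σ)) : a = b :=
  ConcreteCategory.hom_ext _ _ fun s => by
    obtain ⟨U, t, σ, rfl⟩ := exists_germ_eq ξ F s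
    exact h U t σ

instance stalk_additive : (EtModW.stalk Λ ξ).Additive where
  map_add {F G} {φ ψ} := stalk_hom_ext ξ fun U t σ => by
    refine (stalk_map_germ ξ (φ + ψ) t σ).trans ?_
    refine (map_add (germ ξ G t) (φ.hom.app (op U) σ) (ψ.hom.app (op U) σ)).trans ?_
    exact (congrArg₂ (· + ·) (stalk_map_germ ξ φ t σ) (stalk_map_germ ξ ψ t σ)).symm

instance stalk_linear : (EtModW.stalk Λ ξ).Linear Λ where
  map_smul {F G} φ a := stalk_hom_ext ξ fun U t σ => by
    refine (stalk_map_germ ξ (a • φ) t σ).trans ?_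
    refine (map_smul (germ ξ G t) a (φ.hom.app (op U) σ)).trans ?_
    exact (congrArg (a • ·) (stalk_map_germ ξ φ t σ)).symm

instance stalk_preservesFiniteColimits : PreservesFiniteColimits (EtModW.stalk Λ ξ) :=
  haveI : (EtModW.stalk Λ ξ).IsLeftAdjoint := (Scheme.pointSmallEtale ξ).skyscraperSheafAdjunction.isLeftAdjoint
  inferInstance

instance stalk_preservesFiniteLimits : PreservesFiniteLimits (EtModW.stalk Λ ξ) :=
  haveI : AB5OfSize.{u, u} (ModuleCat.{u + 1} Λ) := AB5OfSize_shrink.{u, u, u + 1, u + 1} _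
  inferInstance

theorem finite_of_ftlc {F : EtModW.Mod Λ X} (hF : EtModW.IsFTLocConst Λ F) :
    Module.Finite Λ ((EtModW.stalk Λ ξ).obj F : ModuleCat.{u + 1} Λ) := by
  obtain ⟨U, u, M, _, _, _, σ, hu, hσ⟩ := (ftLocConst_iff F).1 hF (ξ default)
  obtain ⟨q⟩ := EtCore45.exists_pt U ξ ⟨u, hu⟩
  exact Module.Finite.equiv (LinearEquiv.ofBijective _ (EtModTens45.bijective_germ_triv hσ ξ q))

end

/-- Stalks are jointly faithful. -/
theorem eq_zero_of_stalks {F G : EtModW.Mod Λ X} (φ : F ⟶ G)
    (h : ∀ (K : Type u) [Field K] [IsSepClosed K] (η : Spec (CommRingCat.of K) ⟶ X),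
      (EtModW.stalk Λ η).map φ = 0) : φ = 0 := by
  refine ObjectProperty.hom_ext _ (NatTrans.ext (funext fun U => ConcreteCategory.hom_ext _ _ fun σ => ?_))
  obtain ⟨U⟩ := U
  refine EtModTens45.sect_eq_zero_of_germ (φ.hom.app (op U) σ) fun K _ _ η t => ?_
  rw [← stalk_map_germ, h K η]
  rfl

end Groth.Agent.EtModAR45
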