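import Groth.Agent.EtModAR45.LayFlc
import Groth.Agent.EtModAR45.Reflect
import Groth.Agent.ConstrTop58.Basic

/-!
A single stratification for all members of an adic system of constructible sheaves.
-/

set_option autoImplicit false
set_option linter.unusedSectionVars false
set_option backward.isDefEq.respectTransparency.types false
universe u

open CategoryTheory CategoryTheory.Limits AlgebraicGeometry Opposite ARSys Topology
open Groth.Agent.Unr55.EtSh (hom point_over)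
open Groth.Agent.LocConst45.Mod

namespace Groth.Agent.EtModAR45

variable {Λ : Type (u + 1)} [CommRing Λ] [IsNoetherianRing Λ] {I : Ideal Λ} {X : Scheme.{u}}

theorem exists_open_flc_one {T : Scheme.{u}} [IsReduced T] [IrreducibleSpace T] {G : EtModW.Mod Λ T}
    (hG : EtModW.IsConstructible Λ G) :
    ∃ W : T.Opens, genericPoint T ∈ W ∧ EtModW.IsFTLocConst Λ ((EtModW.pull Λ W.ι).obj G) := by
  obtain ⟨V, hV, hxV, -, ι, hι, E, -, -, hcov, hflc⟩ :=
    Mod48.EtCons.exists_strataCover hG isOpen_univ (x := genericPoint T) trivial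
  obtain ⟨k, hk⟩ := Set.mem_iUnion.1 (hcov hxV)
  obtain ⟨O, C, hO, hC, hE⟩ := (hflc k).isLocallyClosed
  rw [hE] at hk
  have hCu : C = Set.univ := Set.eq_univ_of_univ_subset
    ((genericPoint_spec T).symm.le.trans (closure_minimal (Set.singleton_subset_iff.2 hk.2) hC))
  let W : T.Opens := ⟨O, hO⟩
  refine ⟨W, hk.1, Mod48.EtCons.FlcOn.pull_of_range_subset (hflc k) W.ι ?_⟩
  rw [W.range_ι, hE, hCu, Set.inter_univ]
  rfl

theorem exists_open_flc_finite {T : Scheme.{u}} [IsReduced T] [IrreducibleSpace T] (G : ℕ → EtModW.Mod Λ T)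
    (hG : ∀ n, EtModW.IsConstructible Λ (G n)) :
    ∀ d : ℕ, ∃ W : T.Opens, genericPoint T ∈ W ∧
      ∀ n, n ≤ d → EtModW.IsFTLocConst Λ ((EtModW.pull Λ W.ι).obj (G n)) := by
  have restr : ∀ {n} {W W' : T.Opens} (h : W' ≤ W), EtModW.IsFTLocConst Λ ((EtModW.pull Λ W.ι).obj (G n)) →
      EtModW.IsFTLocConst Λ ((EtModW.pull Λ W'.ι).obj (G n)) := fun {n W W'} h hW =>
    ModCons93.ftlc_of_iso (((EtSix.pullModComp Λ (T.homOfLE h) W.ι).app (G n)).symm ≪≫
      (EtSix.pullModCongr Λ (T.homOfLE_ι h)).app (G n)) (isFTLocConst_pull _ hW)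
  intro d
  induction d with
  | zero =>
    obtain ⟨W, hW, h⟩ := exists_open_flc_one (hG 0)
    exact ⟨W, hW, fun n hn => by rw [Nat.le_zero.1 hn]; exact h⟩
  | succ d ih =>
    obtain ⟨W, hW, h⟩ := ih
    obtain ⟨W', hW', h'⟩ := exists_open_flc_one (hG (d + 1))
    refine ⟨W ⊓ W', ⟨hW, hW'⟩, fun n hn => ?_⟩
    rcases Nat.lt_or_ge n (d + 1) with hlt | hge
    · exact restr inf_le_left (h n (by omega))
    · obtain rfl : n = d + 1 := by omega
      exact restr inf_le_right h'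

variable {F : PS (EtModW.Mod Λ X)}

theorem exists_open_flc (hF : IsAdic I F) (hc : ∀ n : ℕ, EtModW.IsConstructible Λ (F.obj (op n)))
    {T : Scheme.{u}} (g : T ⟶ X) [IsReduced T] [IrreducibleSpace T] :
    ∃ W : T.Opens, genericPoint T ∈ W ∧
      ∀ n : ℕ, EtModW.IsFTLocConst Λ ((EtModW.pull Λ (W.ι ≫ g)).obj (F.obj (op n))) := by
  obtain ⟨Ω, _, _, η, hη⟩ := exists_point (genericPoint T)
  obtain ⟨d, hd⟩ := exists_bound hF (η ≫ g) (finite_stalk (hc 0) _)
  obtain ⟨W, hW, hWle⟩ := exists_open_flc_finite (fun n => (EtModW.pull Λ g).obj (F.obj (op n)))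
    (fun n => ModCons93.isConstructible_pull g (hc n)) (d + 1)
  have : IrreducibleSpace W.toScheme := by
    have hirr : IsIrreducible (W : Set T) :=
      ⟨⟨_, hW⟩, (IrreducibleSpace.isIrreducible_univ T).isPreirreducible.open_subset W.2 (Set.subset_univ _)⟩
    exact Subtype.irreducibleSpace hirr
  obtain ⟨ζ, hζ⟩ := Cons51.exists_lift η W.ι (by
    rintro _ ⟨a, rfl⟩
    rw [Unr55.EtSh.default_eq a, hη, W.range_ι]
    exact hW)
  refine ⟨W, hW, hd W.toScheme inferInstance (W.ι ≫ g) ζ ?_ (by rw [← Category.assoc, hζ]) fun n hn =>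
    ModCons93.ftlc_of_iso ((EtSix.pullModComp Λ W.ι g).app _).symm (hWle n hn)⟩
  refine (W.ι.isOpenEmbedding.injective ?_)
  rw [← Scheme.Hom.comp_apply, hζ, hη]
  exact ((genericPoint_spec W.toScheme).image W.ι.continuous).eq
    (by
      have h1 : closure (W.ι '' Set.univ) = Set.univ := by
        rw [Set.image_univ, W.range_ι]
        exact (W.2.dense ⟨_, hW⟩).closure_eq
      show IsGenericPoint (genericPoint T) (closure (W.ι '' Set.univ))
      rw [h1]
      exact genericPoint_spec T) |>.symm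

/-- A family of strata on which every member is locally constant. -/
def AllFlc (F : PS (EtModW.Mod Λ X)) (E : Set X) : Prop :=
  ∃ (T : Scheme.{u}) (g : T ⟶ X), IsImmersion g ∧ Set.range g = E ∧
    ∀ n : ℕ, EtModW.IsFTLocConst Λ ((EtModW.pull Λ g).obj (F.obj (op n)))

theorem AllFlc.mono {E E' : Set X} (h : AllFlc F E) (hs : E' ⊆ E) (hE' : IsLocallyClosed E') : AllFlc F E' := by
  obtain ⟨T, g, hg, rfl, hT⟩ := h
  obtain ⟨T', k, hk, hk'⟩ := EtStrat51.exists_immersion (hE'.preimage g.continuous)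
  refine ⟨T', k ≫ g, inferInstance, ?_,
    fun n => ModCons93.ftlc_of_iso ((EtSix.pullModComp Λ k g).app _).symm (isFTLocConst_pull k (hT n))⟩
  rw [Scheme.Hom.comp_base, TopCat.coe_comp, Set.range_comp, hk', Set.image_preimage_eq_inter_range,
    Set.inter_eq_left.2 hs]

/-- `C` is partitioned by such strata. -/
def Parted (F : PS (EtModW.Mod Λ X)) (C : Set X) : Prop :=
  ∃ (ι : Type) (_ : Finite ι) (E : ι → Set X), Pairwise (fun i j => Disjoint (E i) (E j)) ∧ (⋃ i, E i) = C ∧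
    ∀ i, IsLocallyClosed (E i) ∧ AllFlc F (E i)

theorem Parted.union {C D : Set X} (hD' : IsClosed C) (hC : Parted F C) (hD : Parted F D) :
    Parted F (C ∪ D) := by
  obtain ⟨ι, hι, E, hEd, hEu, hE⟩ := hC
  obtain ⟨κ, hκ, G, hGd, hGu, hG⟩ := hD
  have hl : ∀ j, IsLocallyClosed (G j ∩ Cᶜ) := fun j => (hG j).1.inter hD'.isOpen_compl.isLocallyClosed
  refine ⟨ι ⊕ κ, inferInstance, Sum.elim E (fun j => G j ∩ Cᶜ), ?_, ?_, ?_⟩
  · rintro (i | i) (j | j) hij
    · exact hEd (fun h => hij (congrArg _ h))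
    · exact Set.disjoint_left.2 fun x hx hx' => hx'.2 (hEu ▸ Set.mem_iUnion.2 ⟨i, hx⟩)
    · exact Set.disjoint_left.2 fun x hx hx' => hx.2 (hEu ▸ Set.mem_iUnion.2 ⟨j, hx'⟩)
    · exact (hGd (fun h => hij (congrArg _ h))).mono Set.inter_subset_left Set.inter_subset_left
  · rw [Set.iUnion_sumElim, hEu, ← Set.iUnion_inter, hGu]
    ext x
    simp only [Set.mem_union, Set.mem_inter_iff, Set.mem_compl_iff]
    tauto
  · rintro (i | j)
    · exact hE i
    · exact ⟨hl j, (hG j).2.mono Set.inter_subset_left (hl j)⟩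

theorem parted_univ [IsNoetherian X] (hF : IsAdic I F) (hc : ∀ n : ℕ, EtModW.IsConstructible Λ (F.obj (op n))) :
    Parted F Set.univ := by
  refine ConstrTop58.closed_induction ⟨Empty, inferInstance, Empty.elim, fun i => i.elim,
    Set.iUnion_of_empty _, fun i => i.elim⟩
    (fun C D hC hD hPC hPD => hPC.union hC hPD) (fun Y hY hYi ih => ?_) _ isClosed_univ
  obtain ⟨T, g, hg, hT, hgr⟩ := Cons51.exists_reduced_immersion hY.isLocallyClosed
  have : IrreducibleSpace T := by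
    have hirr : IsIrreducible (Set.univ : Set T) := by
      refine ⟨?_, ?_⟩
      · obtain ⟨y, hy⟩ := hYi.nonempty
        obtain ⟨t, -⟩ := hgr.ge hy
        exact ⟨t, trivial⟩
      · intro u v hu hv hu' hv'
        obtain ⟨O₁, hO₁, rfl⟩ := g.isEmbedding.isInducing.isOpen_iff.1 hu
        obtain ⟨O₂, hO₂, rfl⟩ := g.isEmbedding.isInducing.isOpen_iff.1 hv
        obtain ⟨a, -, ha⟩ := hu'
        obtain ⟨b, -, hb⟩ := hv'
        obtain ⟨y, hy, hy₁, hy₂⟩ := hYi.isPreirreducible O₁ O₂ hO₁ hO₂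
          ⟨g a, hgr.le ⟨a, rfl⟩, ha⟩ ⟨g b, hgr.le ⟨b, rfl⟩, hb⟩
        obtain ⟨t, rfl⟩ := hgr.ge hy
        exact ⟨t, trivial, hy₁, hy₂⟩
    exact irreducibleSpace_def _ |>.2 hirr
  obtain ⟨W, hW, hWflc⟩ := exists_open_flc hF hc g
  obtain ⟨O, hO, hOW⟩ := g.isEmbedding.isInducing.isOpen_iff.1 W.2
  have hE : Set.range (W.ι ≫ g) = Y ∩ O := by
    rw [Scheme.Hom.comp_base, TopCat.coe_comp, Set.range_comp, W.range_ι]
    change g '' (W : Set T) = _
    rw [show (W : Set T) = g ⁻¹' O from hOW.symm, Set.image_preimage_eq_inter_range, hgr, Set.inter_comm]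
  have hlc : IsLocallyClosed (Y ∩ O) := hY.isLocallyClosed.inter hO.isLocallyClosed
  have hP : Parted F (Y ∩ O) := ⟨Unit, inferInstance, fun _ => Y ∩ O, fun i j h => absurd rfl h,
    Set.iUnion_const _, fun _ => ⟨hlc, W.toScheme, W.ι ≫ g, inferInstance, hE, hWflc⟩⟩
  have hlt : Y \ O ⊂ Y := ⟨Set.sdiff_subset, fun h => (h (hgr ▸ ⟨_, rfl⟩ : g (genericPoint T) ∈ Y)).2
    (show genericPoint T ∈ g ⁻¹' O by rw [hOW]; exact hW)⟩
  have := (ih _ (hY.sdiff hO) hlt).union (hY.sdiff hO) hP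
  rwa [show Y \ O ∪ (Y ∩ O) = Y by rw [Set.union_comm]; exact Set.inter_union_sdiff Y O] at this

theorem exists_partition [IsNoetherian X] (hF : IsAdic I F)
    (hc : ∀ n : ℕ, EtModW.IsConstructible Λ (F.obj (op n))) :
    ∃ (m : ℕ) (T : Fin m → Scheme.{u}) (g : ∀ i, T i ⟶ X),
      (∀ i, IsImmersion (g i)) ∧
      Pairwise (fun i j => Disjoint (Set.range (fun t => (g i).base t)) (Set.range (fun t => (g j).base t))) ∧
      (⋃ i, Set.range (fun t => (g i).base t)) = Set.univ ∧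
      ∀ (i : Fin m) (n : ℕ), EtModW.IsFTLocConst Λ ((EtModW.pull Λ (g i)).obj (F.obj (op n))) := by
  obtain ⟨ι, hι, E, hd, hu, hE⟩ := parted_univ hF hc
  obtain ⟨m, ⟨e⟩⟩ := Finite.exists_equiv_fin ι
  choose T g hg hgr hT using fun i => (hE i).2
  refine ⟨m, fun j => T (e.symm j), fun j => g (e.symm j), fun j => hg _, fun i j hij => ?_, ?_, fun j n => hT _ n⟩
  · change Disjoint (Set.range (g (e.symm i))) (Set.range (g (e.symm j)))
    rw [hgr, hgr]
    exact hd (fun h => hij (e.symm.injective h))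
  · rw [← hu]
    exact (Set.iUnion_congr fun j => hgr (e.symm j)).trans (e.symm.surjective.iUnion_comp E)

/-- A dense open on which every member is locally constant. -/
theorem exists_dense_open [IsNoetherian X] (hF : IsAdic I F)
    (hc : ∀ n : ℕ, EtModW.IsConstructible Λ (F.obj (op n))) :
    ∃ U : X.Opens, Dense (U : Set X) ∧
      ∀ n : ℕ, EtModW.IsFTLocConst Λ ((EtModW.pull Λ U.ι).obj (F.obj (op n))) := by
  obtain ⟨ι, hι, E, hd, hu, hE⟩ := parted_univ hF hc
  let U : X.Opens := ⟨⋃ i, interior (E i), isOpen_iUnion fun i => isOpen_interior⟩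
  refine ⟨U, ?_, fun n => ?_⟩
  · rw [dense_iff_inter_open]
    intro O hO ⟨x, hx⟩
    obtain ⟨Z, hZ, hxZ⟩ : x ∈ ⋃₀ irreducibleComponents X := by rw [sUnion_irreducibleComponents]; trivial
    obtain ⟨z, hz⟩ := QuasiSober.sober hZ.1 (isClosed_of_mem_irreducibleComponents Z hZ)
    obtain ⟨i, hi⟩ := Set.mem_iUnion.1 (hu.ge (Set.mem_univ z))
    obtain ⟨A, C, hA, hC, hAC⟩ := (hE i).1
    rw [hAC] at hi
    let B : Set X := A ∩ (⋃₀ {Z' ∈ irreducibleComponents X | Z' ≠ Z})ᶜ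
    have hcl : IsClosed (⋃₀ {Z' ∈ irreducibleComponents X | Z' ≠ Z}) := by
      rw [Set.sUnion_eq_biUnion]
      exact Set.Finite.isClosed_biUnion (TopologicalSpace.NoetherianSpace.finite_irreducibleComponents.subset
        (Set.sep_subset _ _)) fun Z' h' => isClosed_of_mem_irreducibleComponents Z' h'.1
    have hB : IsOpen B := hA.inter hcl.isOpen_compl
    have hBE : B ⊆ E i := by
      rintro y ⟨hyA, hy⟩
      rw [hAC]
      refine ⟨hyA, ?_⟩
      obtain ⟨Z', hZ', hyZ'⟩ : y ∈ ⋃₀ irreducibleComponents X := by rw [sUnion_irreducibleComponents]; trivial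
      obtain rfl : Z' = Z := by
        by_contra h
        exact hy ⟨Z', ⟨hZ', h⟩, hyZ'⟩
      exact (closure_minimal (Set.singleton_subset_iff.2 hi.2) hC) (hz.ge hyZ')
    refine ⟨z, (hz.specializes hxZ).mem_open hO hx, Set.mem_iUnion.2 ⟨i, interior_maximal hBE hB ⟨hi.1, ?_⟩⟩⟩
    rintro ⟨Z', ⟨hZ', hne⟩, hzZ'⟩
    refine hne ?_
    have hsub : Z ⊆ Z' := hz.ge.trans
      (closure_minimal (Set.singleton_subset_iff.2 hzZ') (isClosed_of_mem_irreducibleComponents Z' hZ'))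
    exact Set.Subset.antisymm (hZ.2 hZ'.1 hsub) hsub
  · refine isFTLocConst_of_open_cover fun x => ?_
    obtain ⟨i, hi⟩ := Set.mem_iUnion.1 (show U.ι x ∈ (U : Set X) from x.2)
    let V : X.Opens := ⟨interior (E i), isOpen_interior⟩
    have hVU : V ≤ U := fun y hy => Set.mem_iUnion.2 ⟨i, hy⟩
    refine ⟨V.toScheme, X.homOfLE hVU, inferInstance, ⟨⟨U.ι x, hi⟩, U.ι.isOpenEmbedding.injective
      ((Scheme.Hom.comp_apply _ _ _).symm.trans (congrArg (fun k => k ⟨U.ι x, hi⟩) (X.homOfLE_ι hVU)))⟩, ?_⟩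
    obtain ⟨T, g, hg, hgr, hT⟩ := (hE i).2.mono interior_subset isOpen_interior.isLocallyClosed
    let l : T ⟶ V.toScheme := IsOpenImmersion.lift V.ι g (by rw [hgr, V.range_ι]; rfl)
    have hl : l ≫ V.ι = g := IsOpenImmersion.lift_fac _ _ _
    have : IsImmersion (l ≫ V.ι) := hl ▸ hg
    have : IsImmersion l := IsImmersion.of_comp l V.ι
    have : Surjective l := ⟨fun v => by
      obtain ⟨t, ht⟩ : V.ι v ∈ Set.range g := hgr.ge v.2
      refine ⟨t, V.ι.isOpenEmbedding.injective ?_⟩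
      rw [← ht, ← Scheme.Hom.comp_apply, hl]⟩
    have : IsClosedImmersion l := IsClosedImmersion.of_isPreimmersion _ (by
      rw [Set.range_eq_univ.2 (Surjective.surj)]; exact isClosed_univ)
    refine isFTLocConst_of_pull_thickening l (ModCons93.ftlc_of_iso ?_ (hT n))
    exact (EtSix.pullModCongr Λ hl).symm.app _ ≪≫ (EtSix.pullModComp Λ l V.ι).app _ ≪≫
      (EtModW.pull Λ l).mapIso ((EtSix.pullModCongr Λ (X.homOfLE_ι hVU)).symm.app _ ≪≫
        (EtSix.pullModComp Λ (X.homOfLE hVU) U.ι).app _)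

end Groth.Agent.EtModAR45
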