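import Groth.Agent.AR46.Adic
import Groth.Agent.AR46.Systems
import Mathlib.CategoryTheory.Linear.LinearFunctor
import Mathlib.CategoryTheory.Adjunction.Limits
import Mathlib.CategoryTheory.Limits.Preserves.Shapes.Kernels
import Mathlib.CategoryTheory.Functor.EpiMono
import Mathlib.CategoryTheory.Abelian.Exact

/-!
Systems up to translation under exact linear functors, and detection by jointly faithful families.
-/

set_option autoImplicit false
set_option linter.unusedSectionVars false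
universe w v v' u u' t

open CategoryTheory CategoryTheory.Limits Opposite ARSys Groth.Agent.AR46

namespace Groth.Agent.EtModAR45

variable {C : Type u} [Category.{v} C] {D : Type u'} [Category.{v'} D]
variable {A : Type w} [CommRing A]

section Additive

variable [Abelian C] [Abelian D] (G : C ⥤ D) [G.Additive]

lemma isARNull_map {X : PS C} (h : IsARNull X) : IsARNull (X ⋙ G) :=
  h.imp fun r hr n => (congrArg G.map (hr n)).trans (G.map_zero _ _)

lemma isARIso_map {X Y : PS C} {u : X ⟶ Y} (h : IsARIso u) : IsARIso (Functor.whiskerRight u G) := by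
  obtain ⟨s, w, hw⟩ := (isARIso_iff_exists_shiftInverse u).1 h
  refine (isARIso_iff_exists_shiftInverse _).2 ⟨s, fun n => G.map (w n),
    { natural := fun h => ?_
      inv_comp := fun n => ?_
      comp_inv := fun n => ?_ }⟩
  · exact (G.map_comp _ _).symm.trans ((congrArg G.map (hw.natural h)).trans (G.map_comp _ _))
  · exact (G.map_comp _ _).symm.trans (congrArg G.map (hw.inv_comp n))
  · exact (G.map_comp _ _).symm.trans (congrArg G.map (hw.comp_inv n))

variable [Linear A C] [Linear A D] [G.Linear A] {J : Ideal A}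

lemma killedBy_map {I : Ideal A} {M : C} (h : KilledBy I M) : KilledBy I (G.obj M) := fun a ha => by
  rw [← G.map_id, ← G.map_smul, h a ha, G.map_zero]

lemma termKilled_map {X : PS C} (h : TermKilled J X) : TermKilled J (X ⋙ G) := fun n => killedBy_map G (h n)

lemma isQuot_map {I : Ideal A} (hI : I.FG) [PreservesFiniteColimits G] {M Q : C} {p : M ⟶ Q} (hp : IsQuot I p) :
    IsQuot I (G.map p) := by
  have := isQuot_epi hp
  have : Epi (G.map p) := inferInstance
  refine ⟨killedBy_map G hp.1, fun Z φ hφ => ?_⟩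
  obtain ⟨k, g, hg⟩ := Submodule.fg_iff_exists_fin_generating_family.1 hI
  let d : (∐ fun _ : Fin k => M) ⟶ M := Sigma.desc fun i => g i • 𝟙 M
  have hd : d ≫ p = 0 := Sigma.hom_ext _ _ fun i => by
    rw [Sigma.ι_desc_assoc, Linear.smul_comp, Category.id_comp, comp_zero]
    exact homKilledBy_of_target hp.1 p _ (hg ▸ Ideal.subset_span ⟨i, rfl⟩)
  have hcoker : ∀ (W : C) (ψ : M ⟶ W), d ≫ ψ = 0 → HomKilledBy I ψ := by
    intro W ψ hψ a ha
    rw [← hg] at ha
    induction ha using Submodule.span_induction with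
    | mem a ha =>
      obtain ⟨i, rfl⟩ := ha
      have := Sigma.ι (fun _ : Fin k => M) i ≫= hψ
      rwa [Sigma.ι_desc_assoc, Linear.smul_comp, Category.id_comp, comp_zero] at this
    | zero => simp
    | add b c _ _ hb hc => rw [add_smul, hb, hc, add_zero]
    | smul r b _ hb => rw [smul_eq_mul, mul_smul, hb, smul_zero]
  let hc : IsColimit (CokernelCofork.ofπ p hd) := CokernelCofork.IsColimit.ofπ p hd
    (fun ψ hψ => (hp.2 _ ψ (hcoker _ ψ hψ)).exists.choose)
    (fun ψ hψ => (hp.2 _ ψ (hcoker _ ψ hψ)).exists.choose_spec)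
    (fun ψ hψ m hm => (hp.2 _ ψ (hcoker _ ψ hψ)).unique hm (hp.2 _ ψ (hcoker _ ψ hψ)).exists.choose_spec)
  have hGd : G.map d ≫ φ = 0 := by
    refine (isColimitOfPreserves G (colimit.isColimit (Discrete.functor fun _ : Fin k => M))).hom_ext fun i => ?_
    refine (?_ : G.map (Sigma.ι (fun _ : Fin k => M) i.as) ≫ G.map d ≫ φ =
      G.map (Sigma.ι (fun _ : Fin k => M) i.as) ≫ 0)
    rw [← Category.assoc, ← G.map_comp, Sigma.ι_desc, G.map_smul, G.map_id, Linear.smul_comp,
      Category.id_comp, comp_zero]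
    exact hφ _ (hg ▸ Ideal.subset_span ⟨i.as, rfl⟩)
  obtain ⟨ψ, hψ⟩ := CokernelCofork.IsColimit.desc' (CokernelCofork.mapIsColimit _ hc G) φ hGd
  exact ⟨ψ, hψ, fun ψ' hψ' => by
    rw [← cancel_epi (G.map p)]
    exact hψ'.trans hψ.symm⟩

lemma isAdic_map [IsNoetherianRing A] [PreservesFiniteColimits G] {X : PS C} (h : IsAdic J X) :
    IsAdic J (X ⋙ G) :=
  ⟨termKilled_map G h.1, fun n m hnm => isQuot_map G (IsNoetherian.noetherian _) (h.2 n m hnm)⟩

lemma arAdic_map [IsNoetherianRing A] [PreservesFiniteColimits G] {P : C → Prop} {Q : D → Prop}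
    (hPQ : ∀ M, P M → Q (G.obj M)) {X : PS C}
    (h : TermKilled J X ∧ ∃ (Y : PS C) (v : Y ⟶ X), IsAdic J Y ∧ (∀ n : ℕ, P (Y.obj (op n))) ∧ IsARIso v) :
    TermKilled J (X ⋙ G) ∧ ∃ (Y : PS D) (v : Y ⟶ X ⋙ G), IsAdic J Y ∧ (∀ n : ℕ, Q (Y.obj (op n))) ∧ IsARIso v := by
  obtain ⟨hk, Y, v, hY, hP, hv⟩ := h
  exact ⟨termKilled_map G hk, Y ⋙ G, Functor.whiskerRight v G, isAdic_map G hY, fun n => hPQ _ (hP n),
    isARIso_map G hv⟩

end Additive

section Family

variable [Abelian C] [Abelian D] {ι : Type t} (Φ : ι → C ⥤ D) [∀ i, (Φ i).Additive]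
  [∀ i, PreservesFiniteLimits (Φ i)] [∀ i, PreservesFiniteColimits (Φ i)]
  (hΦ : ∀ {M N : C} (f : M ⟶ N), (∀ i, (Φ i).map f = 0) → f = 0)

include hΦ

lemma epi_of_family {M N : C} (f : M ⟶ N) (h : ∀ i, Epi ((Φ i).map f)) : Epi f := by
  refine Preadditive.epi_of_cokernel_zero (hΦ _ fun i => ?_)
  have := h i
  rw [← cancel_epi ((Φ i).map f), ← (Φ i).map_comp, cokernel.condition, (Φ i).map_zero, comp_zero]

lemma isARNull_of_family {X : PS C} {r : ℕ} (h : ∀ i n, sm (X ⋙ Φ i) r n = 0) : IsARNull X :=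
  ⟨r, fun n => hΦ _ fun i => h i n⟩

lemma isStrict_of_family {X : PS C} (h : ∀ i, IsStrict (X ⋙ Φ i)) : IsStrict X :=
  fun n m hnm => epi_of_family Φ hΦ _ fun i => h i n m hnm

variable [Linear A C] [Linear A D] [∀ i, (Φ i).Linear A] {J : Ideal A} [IsNoetherianRing A]

lemma lei_of_family {I : Ideal A} {T M : C} {x : T ⟶ M} (h : ∀ i, LEI I ((Φ i).map x)) : LEI I x :=
  fun Z φ hφ => hΦ _ fun i => by
    rw [(Φ i).map_comp]
    exact h i _ fun a ha => by rw [← (Φ i).map_smul, hφ a ha, (Φ i).map_zero]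

lemma kerLEI_of_family {X : PS C} {r : ℕ} (h : ∀ i, KerLEI J (X ⋙ Φ i) r) : KerLEI J X r :=
  fun {n m} hnm T x hx => lei_of_family Φ hΦ fun i => h i hnm ((Φ i).map x) (by
    refine ((Φ i).map_comp x _).symm.trans ?_
    rw [hx, (Φ i).map_zero])

end Family

end Groth.Agent.EtModAR45
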